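import Mathlib
import Cfsg.Agent.Lib.Helper49.CDOdd

set_option autoImplicit false

namespace Cfsg.Agent.Lib.Helper49

open QuadraticMap Module

section Lagr

variable {F V : Type*} [Field F] [AddCommGroup V] [Module F V] (Q : QuadraticForm F V)

/-- a nonzero functional cuts the dimension of a subspace by one -/
theorem finrank_inf_ker_add_one [FiniteDimensional F V] (S : Submodule F V) (φ : V →ₗ[F] F)
    (h : ∃ y ∈ S, φ y ≠ 0) : finrank F ↥(S ⊓ LinearMap.ker φ) + 1 = finrank F S := by
  obtain ⟨y, hy, hφ⟩ := h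
  have h1 := LinearMap.finrank_range_add_finrank_ker (φ.domRestrict S)
  have h2 : LinearMap.range (φ.domRestrict S) = ⊤ := by
    apply LinearMap.range_eq_top.2
    intro c
    refine ⟨(c / φ y) • ⟨y, hy⟩, ?_⟩
    simp only [map_smul, LinearMap.domRestrict_apply, smul_eq_mul]
    field_simp
  have h3 : finrank F (LinearMap.ker (φ.domRestrict S)) = finrank F ↥(S ⊓ LinearMap.ker φ) := by
    have e : LinearMap.ker (φ.domRestrict S) = Submodule.comap S.subtype (S ⊓ LinearMap.ker φ) := by
      ext z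
      simp [LinearMap.mem_ker]
    rw [e]
    exact (Submodule.comapSubtypeEquivOfLe (inf_le_left)).finrank_eq
  rw [h2, finrank_top, finrank_self, h3] at h1
  omega

/-- Lagrangian subspaces: totally singular and equal to their orthogonal -/
def IsLagr (U : Submodule F V) : Prop :=
  (∀ u ∈ U, Q u = 0) ∧ LinearMap.BilinForm.orthogonal (polarBilin Q) U = U

variable {Q}

theorem polar_eq_zero_of_singular {U : Submodule F V} (hU : ∀ u ∈ U, Q u = 0) {x y : V}
    (hx : x ∈ U) (hy : y ∈ U) : polar Q x y = 0 := by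
  simp only [polar, hU _ (U.add_mem hx hy), hU _ hx, hU _ hy, sub_zero]

theorem IsLagr.polar_eq_zero {U : Submodule F V} (hU : IsLagr Q U) {x y : V} (hx : x ∈ U)
    (hy : y ∈ U) : polar Q x y = 0 := polar_eq_zero_of_singular hU.1 hx hy

theorem IsLagr.mem_of_forall {U : Submodule F V} (hU : IsLagr Q U) {x : V}
    (h : ∀ u ∈ U, polar Q u x = 0) : x ∈ U := by
  rw [← hU.2]
  exact h

theorem isLagr_of_finrank [FiniteDimensional F V] (hQ : (polarBilin Q).Nondegenerate)
    {U : Submodule F V} (hU : ∀ u ∈ U, Q u = 0) (hd : 2 * finrank F U = finrank F V) :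
    IsLagr Q U := by
  refine ⟨hU, ?_⟩
  symm
  apply Submodule.eq_of_le_of_finrank_eq
  · intro x hx u hu
    exact polar_eq_zero_of_singular hU hu hx
  · rw [LinearMap.BilinForm.finrank_orthogonal hQ]
    omega

theorem IsLagr.finrank_eq [FiniteDimensional F V] (hQ : (polarBilin Q).Nondegenerate)
    {U : Submodule F V} (hU : IsLagr Q U) : 2 * finrank F U = finrank F V := by
  have h := LinearMap.BilinForm.finrank_orthogonal hQ U
  rw [hU.2] at h
  have := Submodule.finrank_le U
  omega

theorem IsLagr.map {U : Submodule F V} (hU : IsLagr Q U) (g : OG Q) :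
    IsLagr Q (U.map (g.1 : V →ₗ[F] V)) := by
  constructor
  · rintro _ ⟨u, hu, rfl⟩
    simpa [OG_apply] using hU.1 u hu
  · ext x
    constructor
    · intro hx
      refine ⟨g.1.symm x, ?_, by simp⟩
      apply hU.mem_of_forall
      intro u hu
      have := hx (g.1 u) ⟨u, hu, rfl⟩
      rw [polarBilin_apply_apply] at this
      have e : x = g.1 (g.1.symm x) := by simp
      rw [e, OG_polar] at this
      exact this
    · rintro ⟨u, hu, rfl⟩ _ ⟨u', hu', rfl⟩
      simp only [LinearEquiv.coe_coe, polarBilin_apply_apply, OG_polar]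
      exact hU.polar_eq_zero hu' hu

theorem IsLagr.eq_of_le {U W : Submodule F V} (hU : IsLagr Q U) (hW : IsLagr Q W) (h : U ≤ W) :
    U = W := by
  apply le_antisymm h
  rw [← hU.2, ← hW.2]
  exact LinearMap.BilinForm.orthogonal_le h

theorem map_refl_map_refl (x : V) (W : Submodule F V) :
    (W.map ((refl Q x).1 : V →ₗ[F] V)).map ((refl Q x).1 : V →ₗ[F] V) = W := by
  ext z
  constructor
  · rintro ⟨_, ⟨w, hw, rfl⟩, rfl⟩
    simpa [reflLin_reflLin] using hw
  · intro hz
    exact ⟨reflLin Q x z, ⟨z, hz, rfl⟩, by simp [reflLin_reflLin]⟩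

/-- case (a) of the parity lemma -/
theorem finrank_inf_map_refl_of_exists [FiniteDimensional F V] {U W : Submodule F V}
    (hU : ∀ u ∈ U, Q u = 0) (hW : ∀ u ∈ W, Q u = 0) (x : V) (hx : Q x ≠ 0)
    (h : ∃ y ∈ U ⊓ W, polar Q x y ≠ 0) :
    finrank F ↥(U ⊓ W.map ((refl Q x).1 : V →ₗ[F] V)) + 1 = finrank F ↥(U ⊓ W) := by
  have key : U ⊓ W.map ((refl Q x).1 : V →ₗ[F] V) = (U ⊓ W) ⊓ LinearMap.ker (polarBilin Q x) := by
    obtain ⟨y, hy, hxy⟩ := h
    ext z
    constructor
    · rintro ⟨hzU, w, hw, rfl⟩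
      have h1 : polar Q y (reflLin Q x w) = 0 := polar_eq_zero_of_singular hU hy.1 hzU
      have h2 : polar Q y w = 0 := polar_eq_zero_of_singular hW hy.2 hw
      have h3 : polar Q x w = 0 := by
        rw [reflLin_apply, polar_sub_right, polar_smul_right, h2, polar_comm Q y x] at h1
        simp only [smul_eq_mul, zero_sub, neg_eq_zero, mul_eq_zero, inv_eq_zero] at h1
        tauto
      have h4 : reflLin Q x w = w := reflLin_of_polar_eq_zero Q _ _ h3
      simp only [LinearEquiv.coe_coe, refl_coe_apply] at hzU ⊢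
      rw [h4] at hzU ⊢
      exact ⟨⟨hzU, hw⟩, by simpa [LinearMap.mem_ker] using h3⟩
    · rintro ⟨⟨hzU, hzW⟩, hz⟩
      have h3 : polar Q x z = 0 := by simpa [LinearMap.mem_ker] using hz
      exact ⟨hzU, z, hzW, by simp [reflLin_of_polar_eq_zero Q _ _ h3]⟩
  rw [key]
  apply finrank_inf_ker_add_one
  obtain ⟨y, hy, hxy⟩ := h
  exact ⟨y, hy, by simpa using hxy⟩

theorem orthogonal_sup (U W : Submodule F V) :
    LinearMap.BilinForm.orthogonal (polarBilin Q) (U ⊔ W) =
      LinearMap.BilinForm.orthogonal (polarBilin Q) U ⊓ LinearMap.BilinForm.orthogonal (polarBilin Q) W := by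
  apply le_antisymm
  · exact le_inf (LinearMap.BilinForm.orthogonal_le le_sup_left)
      (LinearMap.BilinForm.orthogonal_le le_sup_right)
  · rintro x ⟨h1, h2⟩ y hy
    obtain ⟨u, hu, w, hw, rfl⟩ := Submodule.mem_sup.1 hy
    rw [map_add, LinearMap.add_apply, h1 u hu, h2 w hw, add_zero]

/-- **parity lemma**: a reflection changes the dimension of the intersection of two Lagrangians
by exactly one -/
theorem IsLagr.finrank_inf_map_refl [FiniteDimensional F V] (hQ : (polarBilin Q).Nondegenerate)
    {U W : Submodule F V} (hU : IsLagr Q U) (hW : IsLagr Q W) (x : V) (hx : Q x ≠ 0) :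
    finrank F ↥(U ⊓ W.map ((refl Q x).1 : V →ₗ[F] V)) + 1 = finrank F ↥(U ⊓ W) ∨
    finrank F ↥(U ⊓ W.map ((refl Q x).1 : V →ₗ[F] V)) = finrank F ↥(U ⊓ W) + 1 := by
  by_cases h : ∃ y ∈ U ⊓ W, polar Q x y ≠ 0
  · exact Or.inl (finrank_inf_map_refl_of_exists hU.1 hW.1 x hx h)
  · right
    push Not at h
    have hx1 : x ∈ LinearMap.BilinForm.orthogonal (polarBilin Q) (U ⊓ W) := by
      intro y hy
      rw [polarBilin_apply_apply, polar_comm]
      exact h y hy
    have hsup : LinearMap.BilinForm.orthogonal (polarBilin Q) (U ⊓ W) = U ⊔ W := by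
      have := orthogonal_sup (Q := Q) U W
      rw [hU.2, hW.2] at this
      rw [← this, LinearMap.BilinForm.orthogonal_orthogonal hQ (polarBilin_isSymm Q).isRefl]
    rw [hsup] at hx1
    obtain ⟨u, hu, w, hw, rfl⟩ := Submodule.mem_sup.1 hx1
    have hQx : Q (u + w) = polar Q u w := by
      simp only [polar, hU.1 u hu, hW.1 w hw, sub_zero]
    have hpu : polar Q (u + w) u = Q (u + w) := by
      rw [polar_add_left, hU.polar_eq_zero hu hu, zero_add, hQx, polar_comm]
    have hru : reflLin Q (u + w) u = -w := by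
      rw [reflLin_apply, hpu, inv_mul_cancel₀ hx, one_smul]
      abel
    have hmem : u ∈ W.map ((refl Q (u + w)).1 : V →ₗ[F] V) := by
      refine ⟨-w, W.neg_mem hw, ?_⟩
      simp only [LinearEquiv.coe_coe, refl_coe_apply]
      rw [← hru, reflLin_reflLin]
    have := finrank_inf_map_refl_of_exists (Q := Q) (U := U)
      (W := W.map ((refl Q (u + w)).1 : V →ₗ[F] V)) hU.1 (hW.map _).1 (u + w) hx
      ⟨u, ⟨hu, hmem⟩, by rw [hpu]; exact hx⟩
    rw [map_refl_map_refl] at this
    exact this.symm

theorem map_reflProd_cons (x : V) (vs : List V) (W : Submodule F V) :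
    W.map ((reflProd Q (x :: vs)).1 : V →ₗ[F] V) =
      (W.map ((reflProd Q vs).1 : V →ₗ[F] V)).map ((refl Q x).1 : V →ₗ[F] V) := by
  rw [← Submodule.map_comp]
  congr 1

/-- parity of the codimension of the intersection changes by the number of reflections -/
theorem IsLagr.even_finrank_inf_map_reflProd [FiniteDimensional F V]
    (hQ : (polarBilin Q).Nondegenerate) {U W : Submodule F V} (hU : IsLagr Q U) (hW : IsLagr Q W)
    (vs : List V) (hvs : ∀ v ∈ vs, Q v ≠ 0) :
    Even (finrank F ↥(U ⊓ W.map ((reflProd Q vs).1 : V →ₗ[F] V)) + finrank F ↥(U ⊓ W) +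
      vs.length) := by
  induction vs with
  | nil =>
    have : W.map ((reflProd Q ([] : List V)).1 : V →ₗ[F] V) = W := by
      simp [reflProd_nil]
    rw [this]
    simp
  | cons x vs ih =>
    have ih' := ih (fun u hu => hvs u (List.mem_cons_of_mem _ hu))
    have hx := hvs x List.mem_cons_self
    rw [map_reflProd_cons, List.length_cons]
    rcases hU.finrank_inf_map_refl hQ (hW.map (reflProd Q vs)) x hx with h | h
    · rw [← h] at ih'
      rw [Nat.even_iff] at ih' ⊢
      omega
    · rw [h]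
      rw [Nat.even_iff] at ih' ⊢
      omega

/-- a chain of reflections in vectors of norm `-1` carries one Lagrangian to another -/
theorem IsLagr.exists_reflProd_map [FiniteDimensional F V] {U : Submodule F V} (hU : IsLagr Q U) :
    ∀ (k : ℕ) (W : Submodule F V), IsLagr Q W → finrank F U = finrank F ↥(U ⊓ W) + k →
      ∃ vs : List V, (∀ v ∈ vs, Q v = -1) ∧ vs.length = k ∧
        W.map ((reflProd Q vs).1 : V →ₗ[F] V) = U := by
  intro k
  induction k with
  | zero =>
    intro W hW hk
    refine ⟨[], by simp, rfl, ?_⟩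
    have h1 : U ⊓ W = U := Submodule.eq_of_le_of_finrank_eq inf_le_left (by omega)
    have h2 : U ≤ W := by rw [← h1]; exact inf_le_right
    rw [hU.eq_of_le hW h2]
    simp [reflProd_nil]
  | succ k ih =>
    intro W hW hk
    have hne : ¬ U ≤ W := by
      intro h
      have : U ⊓ W = U := inf_eq_left.2 h
      rw [this] at hk
      omega
    obtain ⟨u, hu, huW⟩ := Set.not_subset.1 hne
    have : ∃ w ∈ W, polar Q w u ≠ 0 := by
      by_contra hcon
      push Not at hcon
      exact huW (hW.mem_of_forall hcon)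
    obtain ⟨w₀, hw₀, hp⟩ := this
    set w := (polar Q w₀ u)⁻¹ • w₀ with hw
    have hwW : w ∈ W := W.smul_mem _ hw₀
    have hwu : polar Q w u = 1 := by
      rw [hw, polar_smul_left, smul_eq_mul, inv_mul_cancel₀ hp]
    have hQx : Q (w - u) = -1 := by
      have := Q_sub_smul Q w u 1
      simp only [one_smul, one_pow, one_mul] at this
      rw [this, hW.1 w hwW, hU.1 u hu, polar_comm, hwu]
      ring
    have hx0 : Q (w - u) ≠ 0 := by rw [hQx]; simp
    have hmap : reflLin Q (w - u) w = u :=
      reflLin_sub_apply Q w u ((hW.1 w hwW).trans (hU.1 u hu).symm) hx0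
    have hmem : u ∈ W.map ((refl Q (w - u)).1 : V →ₗ[F] V) := ⟨w, hwW, by simpa using hmap⟩
    have hpu : polar Q (w - u) u ≠ 0 := by
      rw [polar_sub_left, hwu, hU.polar_eq_zero hu hu]
      simp
    have h1 := finrank_inf_map_refl_of_exists (Q := Q) (U := U)
      (W := W.map ((refl Q (w - u)).1 : V →ₗ[F] V)) hU.1 (hW.map _).1 (w - u) hx0
      ⟨u, ⟨hu, hmem⟩, hpu⟩
    rw [map_refl_map_refl] at h1
    obtain ⟨vs, hvs, hlen, hmapU⟩ := ih (W.map ((refl Q (w - u)).1 : V →ₗ[F] V)) (hW.map _)
      (by omega)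
    refine ⟨vs ++ [w - u], ?_, by simp [hlen], ?_⟩
    · intro v hv
      rcases List.mem_append.1 hv with h | h
      · exact hvs v h
      · simp only [List.mem_cons, List.not_mem_nil, or_false] at h
        rw [h]; exact hQx
    · rw [← hmapU, ← Submodule.map_comp]
      congr 1
      rw [reflProd_append]
      simp [reflProd]
      rfl

end Lagr

end Cfsg.Agent.Lib.Helper49
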