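import Mathlib
import Cfsg.Agent.Lib.Helper49.CDOdd
import Cfsg.Agent.Lib.Helper49.Lagr
import Cfsg.Agent.Lib.Helper49.ReflList

set_option autoImplicit false

namespace Cfsg.Agent.Lib.Helper49

open QuadraticMap Module

section CDEven

variable {F V : Type*} [Field F] [AddCommGroup V] [Module F V] (Q : QuadraticForm F V)

theorem polar_self_of_two_eq_zero (h2 : (2 : F) = 0) (x : V) : polar Q x x = 0 := by
  rw [polar_self, nsmul_eq_mul]
  push_cast
  rw [h2, zero_mul]

theorem Q_add_eq (x y : V) : Q (x + y) = Q x + Q y + polar Q x y := by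
  simp only [polar]; ring

theorem Q_reflLin_sub (u v y : V) (h0 : Q (u - v) = 0) (hy : Q y ≠ 0) :
    Q (reflLin Q y u - v) = (Q y)⁻¹ * polar Q y u * polar Q y v := by
  have e : reflLin Q y u - v = (u - v) - ((Q y)⁻¹ * polar Q y u) • y := by
    rw [reflLin_apply]; abel
  rw [e, Q_sub_smul, h0, polar_sub_right]
  field_simp
  ring

/-- the two reflection lemma (any characteristic) -/
theorem exists_reflProd_map_aux (u v y : V) (h : Q u = Q v) (h0 : Q (u - v) = 0) (hy : Q y ≠ 0)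
    (hu : polar Q y u ≠ 0) (hv : polar Q y v ≠ 0) :
    ∃ vs : List V, (∀ z ∈ vs, Q z ≠ 0) ∧ (reflProd Q vs).1 u = v ∧
      ∀ x, polar Q y x = 0 → polar Q u x = polar Q v x → (reflProd Q vs).1 x = x := by
  have h1 : Q (reflLin Q y u - v) ≠ 0 := by
    rw [Q_reflLin_sub Q u v y h0 hy]
    exact mul_ne_zero (mul_ne_zero (inv_ne_zero hy) hu) hv
  refine ⟨[reflLin Q y u - v, y], ?_, ?_, ?_⟩
  · intro z hz
    simp only [List.mem_cons, List.not_mem_nil, or_false] at hz
    rcases hz with rfl | rfl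
    · exact h1
    · exact hy
  · have := reflLin_sub_apply Q (reflLin Q y u) v (by rw [Q_reflLin, h]) h1
    simp [this]
  · intro x hx1 hx2
    have h4 : reflLin Q y x = x := reflLin_of_polar_eq_zero Q _ _ hx1
    have h5 : reflLin Q (reflLin Q y u - v) x = x := by
      apply reflLin_of_polar_eq_zero
      rw [reflLin_apply, polar_sub_left, polar_sub_left, polar_smul_left, hx1, hx2]
      simp
    simp [h4, h5]

/-- one reflection or two -/
theorem exists_reflProd_map_aux' (u v y : V) (h : Q u = Q v) (hy : Q y ≠ 0)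
    (hu : polar Q y u ≠ 0) (hv : polar Q y v ≠ 0) :
    ∃ vs : List V, (∀ z ∈ vs, Q z ≠ 0) ∧ (reflProd Q vs).1 u = v ∧
      ∀ x, polar Q y x = 0 → polar Q u x = polar Q v x → (reflProd Q vs).1 x = x := by
  by_cases h0 : Q (u - v) = 0
  · exact exists_reflProd_map_aux Q u v y h h0 hy hu hv
  · refine ⟨[u - v], ?_, ?_, ?_⟩
    · intro z hz
      simp only [List.mem_cons, List.not_mem_nil, or_false] at hz
      rw [hz]; exact h0
    · simp [reflLin_sub_apply Q u v h h0]
    · intro x _ hx2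
      have h4 : reflLin Q (u - v) x = x :=
        reflLin_of_polar_eq_zero Q _ _ (by rw [polar_sub_left, hx2, sub_self])
      simp [h4]

/-- step 2: fixing `u` nonsingular, move `w'` to `w` -/
theorem exists_reflProd_fix_map (h2 : (2 : F) = 0) (u w w' : V) (hu : Q u ≠ 0)
    (hw : polar Q u w ≠ 0) (hww : polar Q u w' = polar Q u w) (hQ : Q w' = Q w) :
    ∃ vs : List V, (∀ z ∈ vs, Q z ≠ 0) ∧ (reflProd Q vs).1 w' = w ∧ (reflProd Q vs).1 u = u ∧
      ∀ x, polar Q u x = 0 → polar Q w' x = polar Q w x → (reflProd Q vs).1 x = x := by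
  obtain ⟨vs, h1, h3, h4⟩ := exists_reflProd_map_aux' Q w' w u hQ hu (by rw [hww]; exact hw) hw
  refine ⟨vs, h1, h3, ?_, h4⟩
  apply h4
  · exact polar_self_of_two_eq_zero Q h2 u
  · rw [polar_comm, hww, polar_comm]

/-- step 1 inside the stabiliser of a nonsingular vector `u₀` -/
theorem exists_reflProd_map_fix (h2 : (2 : F) = 0) (u₀ a a' b b' : V) (hu₀ : Q u₀ ≠ 0)
    (ha : polar Q u₀ a = 0) (ha' : polar Q u₀ a' = 0) (hb : polar Q u₀ b = 0)
    (hb' : polar Q u₀ b' = 0) (hab : polar Q a b ≠ 0) (hab' : polar Q a' b' ≠ 0)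
    (hQ : Q a' = Q a) :
    ∃ vs : List V, (∀ z ∈ vs, Q z ≠ 0) ∧ (reflProd Q vs).1 a' = a ∧
      (reflProd Q vs).1 u₀ = u₀ := by
  -- a vector `y₀` orthogonal to `u₀` and not orthogonal to `a`, `a'`
  have hy₀ : ∃ y₀, polar Q u₀ y₀ = 0 ∧ polar Q a y₀ ≠ 0 ∧ polar Q a' y₀ ≠ 0 := by
    by_cases h3 : polar Q a' b = 0
    · by_cases h4 : polar Q a b' = 0
      · refine ⟨b + b', ?_, ?_, ?_⟩
        · rw [polar_add_right, hb, hb', add_zero]
        · rw [polar_add_right, h4, add_zero]; exact hab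
        · rw [polar_add_right, h3, zero_add]; exact hab'
      · exact ⟨b', hb', h4, hab'⟩
    · exact ⟨b, hb, hab, h3⟩
  obtain ⟨y₀, h5, h6, h7⟩ := hy₀
  have hy : ∃ y, Q y ≠ 0 ∧ polar Q u₀ y = 0 ∧ polar Q a y ≠ 0 ∧ polar Q a' y ≠ 0 := by
    by_cases h8 : Q y₀ = 0
    · refine ⟨y₀ + u₀, ?_, ?_, ?_, ?_⟩
      · rw [Q_add_eq, h8, polar_comm, h5]; simpa using hu₀
      · rw [polar_add_right, h5, polar_self_of_two_eq_zero Q h2, add_zero]
      · rw [polar_add_right, polar_comm Q a u₀, ha, add_zero]; exact h6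
      · rw [polar_add_right, polar_comm Q a' u₀, ha', add_zero]; exact h7
    · exact ⟨y₀, h8, h5, h6, h7⟩
  obtain ⟨y, hy1, hy2, hy3, hy4⟩ := hy
  obtain ⟨vs, h1, h3, h4⟩ := exists_reflProd_map_aux' Q a' a y hQ hy1
    (by rw [polar_comm]; exact hy4) (by rw [polar_comm]; exact hy3)
  refine ⟨vs, h1, h3, ?_⟩
  apply h4
  · rw [polar_comm]; exact hy2
  · rw [polar_comm, ha', polar_comm, ha]

end CDEven

end Cfsg.Agent.Lib.Helper49
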