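import Mathlib
import Cfsg.Agent.Lib.Helper49.Lagr
import Cfsg.Agent.Lib.Helper49.CDEven

set_option autoImplicit false

namespace Cfsg.Agent.Lib.Helper49

open QuadraticMap Module

section FixParity

variable {F V : Type*} [Field F] [AddCommGroup V] [Module F V] (Q : QuadraticForm F V)

/-- `g - 1` -/
def dOG (g : OG Q) : V →ₗ[F] V := (g.1 : V →ₗ[F] V) - LinearMap.id

@[simp] theorem dOG_apply (g : OG Q) (x : V) : dOG Q g x = g.1 x - x := rfl

theorem mem_ker_dOG {g : OG Q} {x : V} : x ∈ LinearMap.ker (dOG Q g) ↔ g.1 x = x := by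
  rw [LinearMap.mem_ker, dOG_apply, sub_eq_zero]

theorem polar_dOG_of_fixed (g : OG Q) (f x : V) (hf : g.1 f = f) : polar Q f (dOG Q g x) = 0 := by
  rw [dOG_apply, polar_sub_right]
  conv_lhs => rw [← hf]
  rw [OG_polar, hf, sub_self]

theorem range_dOG [FiniteDimensional F V] (hQ : (polarBilin Q).Nondegenerate) (g : OG Q) :
    LinearMap.range (dOG Q g) =
      LinearMap.BilinForm.orthogonal (polarBilin Q) (LinearMap.ker (dOG Q g)) := by
  apply Submodule.eq_of_le_of_finrank_eq
  · rintro _ ⟨x, rfl⟩ f hf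
    exact polar_dOG_of_fixed Q g f x ((mem_ker_dOG Q).1 hf)
  · have h1 := LinearMap.finrank_range_add_finrank_ker (dOG Q g)
    have h2 := LinearMap.BilinForm.finrank_orthogonal hQ (LinearMap.ker (dOG Q g))
    omega

theorem refl_mul_apply_eq_iff (g : OG Q) (y x : V) :
    (refl Q y * g).1 x = x ↔ g.1 x = reflLin Q y x := by
  rw [Subgroup.coe_mul, LinearEquiv.mul_apply, refl_coe_apply]
  constructor
  · intro h
    rw [← h, reflLin_reflLin, h]
  · intro h
    rw [h, reflLin_reflLin]

/-- case 1 -/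
theorem finrank_ker_dOG_refl_mul_of_notMem [FiniteDimensional F V]
    (hQ : (polarBilin Q).Nondegenerate) (g : OG Q) (y : V) (hy : Q y ≠ 0)
    (hy' : y ∉ LinearMap.range (dOG Q g)) :
    finrank F (LinearMap.ker (dOG Q (refl Q y * g))) + 1 = finrank F (LinearMap.ker (dOG Q g)) := by
  have e : LinearMap.ker (dOG Q (refl Q y * g)) =
      LinearMap.ker (dOG Q g) ⊓ LinearMap.ker (polarBilin Q y) := by
    ext x
    rw [mem_ker_dOG, refl_mul_apply_eq_iff, Submodule.mem_inf, mem_ker_dOG, LinearMap.mem_ker,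
      polarBilin_apply_apply]
    constructor
    · intro h
      have h0 : (Q y)⁻¹ * polar Q y x = 0 := by
        by_contra hc
        apply hy'
        refine ⟨(-((Q y)⁻¹ * polar Q y x)⁻¹) • x, ?_⟩
        rw [map_smul, dOG_apply, h, reflLin_apply, sub_sub_cancel_left, smul_neg, neg_smul, neg_neg,
          smul_smul, inv_mul_cancel₀ hc, one_smul]
      have h1 : g.1 x = x := by rw [h, reflLin_apply, h0, zero_smul, sub_zero]
      refine ⟨h1, ?_⟩
      rcases mul_eq_zero.1 h0 with h2 | h2
      · exact absurd (inv_eq_zero.1 h2) hy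
      · exact h2
    · rintro ⟨h1, h2⟩
      rw [h1, reflLin_of_polar_eq_zero Q _ _ h2]
  rw [e]
  apply finrank_inf_ker_add_one
  rw [range_dOG Q hQ] at hy'
  by_contra hcon
  push Not at hcon
  apply hy'
  intro f hf
  have := hcon f hf
  rw [polarBilin_apply_apply, polar_comm] at this
  exact this

/-- case 2 reduces to case 1 -/
theorem notMem_range_dOG_refl_mul (g : OG Q) (y : V) (hy : Q y ≠ 0)
    (hy' : y ∈ LinearMap.range (dOG Q g)) : y ∉ LinearMap.range (dOG Q (refl Q y * g)) := by
  obtain ⟨z, hz⟩ := hy'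
  rw [dOG_apply] at hz
  have hgz : g.1 z = z + y := by rw [← hz]; abel
  have h1 : polar Q y z = - Q y := by
    have h2 : Q (g.1 z) = Q z := OG_apply Q g z
    rw [hgz, Q_add_eq, polar_comm] at h2
    linear_combination h2
  have h3 : (refl Q y * g).1 z = z := by
    rw [refl_mul_apply_eq_iff, hgz, reflLin_apply, h1]
    have : (Q y)⁻¹ * -Q y = -1 := by field_simp
    rw [this]
    simp
  rintro ⟨z', hz'⟩
  have h4 := polar_dOG_of_fixed Q (refl Q y * g) z z' h3
  rw [hz', polar_comm, h1] at h4
  exact hy (neg_eq_zero.1 h4)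

theorem finrank_ker_dOG_refl_mul [FiniteDimensional F V] (hQ : (polarBilin Q).Nondegenerate)
    (g : OG Q) (y : V) (hy : Q y ≠ 0) :
    finrank F (LinearMap.ker (dOG Q (refl Q y * g))) + 1 = finrank F (LinearMap.ker (dOG Q g)) ∨
    finrank F (LinearMap.ker (dOG Q (refl Q y * g))) = finrank F (LinearMap.ker (dOG Q g)) + 1 := by
  by_cases hy' : y ∈ LinearMap.range (dOG Q g)
  · right
    have := finrank_ker_dOG_refl_mul_of_notMem Q hQ (refl Q y * g) y hy
      (notMem_range_dOG_refl_mul Q g y hy hy')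
    rw [← mul_assoc, refl_mul_self, one_mul] at this
    exact this.symm
  · left
    exact finrank_ker_dOG_refl_mul_of_notMem Q hQ g y hy hy'

/-- the dimension of the fixed space of a product of `k` reflections is congruent to `n + k` -/
theorem even_finrank_ker_dOG_reflProd [FiniteDimensional F V] (hQ : (polarBilin Q).Nondegenerate)
    (vs : List V) (hvs : ∀ v ∈ vs, Q v ≠ 0) :
    Even (finrank F (LinearMap.ker (dOG Q (reflProd Q vs))) + finrank F V + vs.length) := by
  induction vs with
  | nil =>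
    have : LinearMap.ker (dOG Q (reflProd Q ([] : List V))) = ⊤ := by
      rw [eq_top_iff]
      intro x _
      rw [mem_ker_dOG]
      simp
    rw [this, finrank_top]
    simp
  | cons x vs ih =>
    have ih' := ih (fun u hu => hvs u (List.mem_cons_of_mem _ hu))
    rw [reflProd_cons, List.length_cons]
    rcases finrank_ker_dOG_refl_mul Q hQ (reflProd Q vs) x (hvs x List.mem_cons_self) with h | h
    · rw [← h] at ih'
      rw [Nat.even_iff] at ih' ⊢
      omega
    · rw [h]
      rw [Nat.even_iff] at ih' ⊢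
      omega

/-- the rank of `g - 1` has the parity of the number of reflections -/
theorem even_finrank_range_dOG_reflProd_iff [FiniteDimensional F V]
    (hQ : (polarBilin Q).Nondegenerate) (vs : List V) (hvs : ∀ v ∈ vs, Q v ≠ 0) :
    Even (finrank F (LinearMap.range (dOG Q (reflProd Q vs)))) ↔ Even vs.length := by
  have h1 := LinearMap.finrank_range_add_finrank_ker (dOG Q (reflProd Q vs))
  have h2 := even_finrank_ker_dOG_reflProd Q hQ vs hvs
  rw [Nat.even_iff] at h2 ⊢
  rw [Nat.even_iff]
  omega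

/-- an isometry `g` with `g - 1` of rank one is a reflection -/
theorem eq_refl_of_finrank_range_dOG (hQ : (polarBilin Q).Nondegenerate) (g : OG Q)
    (h : finrank F (LinearMap.range (dOG Q g)) = 1) : ∃ a, Q a ≠ 0 ∧ g = refl Q a := by
  obtain ⟨⟨a, ha⟩, ha0, hspan⟩ := finrank_eq_one_iff'.1 h
  have ha0' : a ≠ 0 := fun h0 => ha0 (Subtype.ext h0)
  have hφ : ∀ x, ∃ c : F, g.1 x = x + c • a := by
    intro x
    obtain ⟨c, hc⟩ := hspan ⟨dOG Q g x, ⟨x, rfl⟩⟩
    refine ⟨c, ?_⟩
    have := congrArg Subtype.val hc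
    simp only [SetLike.mk_smul_mk, dOG_apply] at this
    rw [this]; abel
  choose φ hφ using hφ
  have hrel : ∀ x, φ x * (φ x * Q a + polar Q x a) = 0 := by
    intro x
    have h2 : Q (g.1 x) = Q x := OG_apply Q g x
    rw [hφ x, Q_add_eq, QuadraticMap.map_smul, polar_smul_right, smul_eq_mul, smul_eq_mul] at h2
    linear_combination h2
  have hadd : ∀ x y, φ (x + y) = φ x + φ y := by
    intro x y
    have h3 : g.1 (x + y) = g.1 x + g.1 y := map_add _ _ _
    rw [hφ, hφ x, hφ y] at h3
    have h4 : (φ (x + y) - (φ x + φ y)) • a = 0 := by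
      rw [sub_smul, add_smul]
      have : φ (x + y) • a = φ x • a + φ y • a := by
        have := sub_eq_zero.2 h3
        have e : x + y + φ (x + y) • a - (x + φ x • a + (y + φ y • a)) =
          φ (x + y) • a - (φ x • a + φ y • a) := by abel
        rw [e] at this
        exact sub_eq_zero.1 this
      rw [this, sub_self]
    rcases smul_eq_zero.1 h4 with h5 | h5
    · exact sub_eq_zero.1 h5
    · exact absurd h5 ha0'
  obtain ⟨x₀, hx₀⟩ : ∃ x₀, φ x₀ ≠ 0 := by
    obtain ⟨x₀, hx₀⟩ := ha
    refine ⟨x₀, fun h0 => ha0' ?_⟩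
    rw [← hx₀, dOG_apply, hφ, h0]
    simp
  have hlin : ∀ x, φ x * Q a + polar Q x a = 0 := by
    intro x
    by_cases hx : φ x = 0
    · have h5 := hrel (x + x₀)
      have h6 := hrel x₀
      rw [hadd, hx, zero_add, polar_add_left] at h5
      have h7 := (mul_eq_zero.1 h5).resolve_left hx₀
      have h8 := (mul_eq_zero.1 h6).resolve_left hx₀
      rw [hx]
      linear_combination h7 - h8
    · exact (mul_eq_zero.1 (hrel x)).resolve_left hx
  have hQa : Q a ≠ 0 := by
    intro h0
    apply ha0'
    apply hQ.1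
    intro x
    have := hlin x
    rw [h0, mul_zero, zero_add, polar_comm] at this
    exact this
  refine ⟨a, hQa, ?_⟩
  apply Subtype.ext
  ext x
  rw [refl_coe_apply, reflLin_apply, hφ x]
  have : φ x = - ((Q a)⁻¹ * polar Q a x) := by
    have := hlin x
    rw [polar_comm] at this
    field_simp
    linear_combination this
  rw [this, neg_smul, sub_eq_add_neg]

end FixParity

end Cfsg.Agent.Lib.Helper49
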