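import Mathlib
import Cfsg.Agent.S0750
import Cfsg.Agent.Lib.Helper49.CDOdd

set_option autoImplicit false

namespace Cfsg.Agent.Lib.Helper49

open QuadraticMap Module
open scoped commutatorElement

section WittUse

variable {F V : Type*} [Field F] [Finite F] [AddCommGroup V] [Module F V] [FiniteDimensional F V]
  (Q : QuadraticForm F V)

/-- Witt's lemma in terms of the abstract orthogonal group -/
theorem witt_OG (hQ : (polarBilin Q).Nondegenerate) (X Y : Submodule F V) (φ : X ≃ₗ[F] Y)
    (hφ : ∀ x : X, Q (φ x : V) = Q (x : V)) : ∃ g : OG Q, ∀ x : X, g.1 (x : V) = (φ x : V) := by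
  obtain ⟨g, hg, hgx⟩ := Cfsg.Agent.S0750.result Q hQ X Y φ hφ
  exact ⟨⟨g, hg⟩, hgx⟩

/-- Witt's lemma for single vectors -/
theorem exists_OG_map_vec (hQ : (polarBilin Q).Nondegenerate) (u v : V) (hu : u ≠ 0) (hv : v ≠ 0)
    (h : Q u = Q v) : ∃ g : OG Q, g.1 u = v := by
  let φ : (F ∙ u) ≃ₗ[F] (F ∙ v) :=
    (LinearEquiv.toSpanNonzeroSingleton F V u hu).symm.trans
      (LinearEquiv.toSpanNonzeroSingleton F V v hv)
  have hφ : ∀ c : F, φ ⟨c • u, Submodule.smul_mem _ _ (Submodule.mem_span_singleton_self u)⟩ =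
      ⟨c • v, Submodule.smul_mem _ _ (Submodule.mem_span_singleton_self v)⟩ := by
    intro c
    have : (⟨c • u, Submodule.smul_mem _ _ (Submodule.mem_span_singleton_self u)⟩ : (F ∙ u)) =
        LinearEquiv.toSpanNonzeroSingleton F V u hu c := by
      apply Subtype.ext
      simp
    simp only [φ, LinearEquiv.trans_apply]
    rw [this, LinearEquiv.symm_apply_apply]
    apply Subtype.ext
    simp
  obtain ⟨g, hg⟩ := witt_OG Q hQ (F ∙ u) (F ∙ v) φ (by
    rintro ⟨x, hx⟩
    obtain ⟨c, rfl⟩ := Submodule.mem_span_singleton.1 hx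
    rw [hφ c]
    simp only [QuadraticMap.map_smul, h])
  refine ⟨g, ?_⟩
  have := hg ⟨(1 : F) • u, Submodule.smul_mem _ _ (Submodule.mem_span_singleton_self u)⟩
  rw [hφ 1] at this
  simpa using this

omit [Finite F] [FiniteDimensional F V] in
theorem ne_zero_of_Q_ne_zero {v : V} (h : Q v ≠ 0) : v ≠ 0 := by
  rintro rfl
  simp at h

/-- reflections in vectors of the same norm are congruent modulo the commutator subgroup
(any characteristic) -/
theorem refl_mul_refl_mem_commutator_of_eq (hQ : (polarBilin Q).Nondegenerate) (u v : V)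
    (hu : Q u ≠ 0) (h : Q u = Q v) : refl Q u * refl Q v ∈ commutator (OG Q) := by
  obtain ⟨g, hg⟩ := exists_OG_map_vec Q hQ v u (ne_zero_of_Q_ne_zero Q (h ▸ hu))
    (ne_zero_of_Q_ne_zero Q hu) h.symm
  have h3 : refl Q u = g * refl Q v * g⁻¹ := by
    rw [refl_conj, hg]
  have h4 : refl Q u * refl Q v = ⁅(g : OG Q), refl Q v⁆ := by
    rw [commutatorElement_def, h3, refl_inv]
  rw [h4, commutator_def]
  exact Subgroup.commutator_mem_commutator (Subgroup.mem_top _) (Subgroup.mem_top _)

/-- an even product of reflections in vectors of one fixed norm lies in the commutator subgroup -/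
theorem reflProd_mem_commutator_of_const (hQ : (polarBilin Q).Nondegenerate) (c : F) (hc : c ≠ 0) :
    ∀ (k : ℕ) (vs : List V), (∀ v ∈ vs, Q v = c) → vs.length = 2 * k →
      reflProd Q vs ∈ commutator (OG Q) := by
  intro k
  induction k with
  | zero =>
    intro vs _ hlen
    have : vs = [] := List.length_eq_zero_iff.1 (by omega)
    rw [this]
    exact Subgroup.one_mem _
  | succ k ih =>
    intro vs hvs hlen
    match vs, hvs, hlen with
    | [], _, hlen => simp at hlen
    | [a], _, hlen => simp at hlen; omega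
    | a :: b :: vs, hvs, hlen =>
      rw [reflProd_cons, reflProd_cons, ← mul_assoc]
      apply Subgroup.mul_mem
      · apply refl_mul_refl_mem_commutator_of_eq Q hQ
        · rw [hvs a (by simp)]; exact hc
        · rw [hvs a (by simp), hvs b (by simp)]
      · apply ih vs
        · intro v hv
          exact hvs v (by simp [hv])
        · simp only [List.length_cons] at hlen
          omega

end WittUse

end Cfsg.Agent.Lib.Helper49
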