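import Mathlib
import Cfsg.Agent.Lib.Helper49.WittUse
import Cfsg.Agent.Lib.Helper49.Spinor

set_option autoImplicit false

namespace Cfsg.Agent.Lib.Helper49

open QuadraticMap Module

section EvenProd

variable {F V : Type*} [Field F] [Fintype F] [AddCommGroup V] [Module F V] [FiniteDimensional F V]
  (Q : QuadraticForm F V)

theorem isSquare_of_two_eq_zero (h2 : (2 : F) = 0) (a : F) : IsSquare a := by
  apply FiniteField.isSquare_of_char_two
  have : CharP F 2 := by
    apply CharTwo.of_one_ne_zero_of_two_eq_zero one_ne_zero h2
  exact ringChar.eq F 2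

/-- in characteristic two any two reflections are congruent modulo the commutator subgroup -/
theorem refl_mul_refl_mem_commutator_char_two (h2 : (2 : F) = 0)
    (hQ : (polarBilin Q).Nondegenerate) (u v : V) (hu : Q u ≠ 0) (hv : Q v ≠ 0) :
    refl Q u * refl Q v ∈ commutator (OG Q) := by
  obtain ⟨c, hc⟩ := isSquare_of_two_eq_zero h2 (Q u / Q v)
  have hc0 : c ≠ 0 := by
    rintro rfl
    rw [mul_zero, div_eq_zero_iff] at hc
    tauto
  rw [← refl_smul Q v hc0]
  apply refl_mul_refl_mem_commutator_of_eq Q hQ _ _ hu
  rw [QuadraticMap.map_smul, ← hc, smul_eq_mul]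
  field_simp

theorem reflProd_mem_commutator_of_even_char_two (h2 : (2 : F) = 0)
    (hQ : (polarBilin Q).Nondegenerate) :
    ∀ (k : ℕ) (vs : List V), (∀ v ∈ vs, Q v ≠ 0) → vs.length = 2 * k →
      reflProd Q vs ∈ commutator (OG Q) := by
  intro k
  induction k with
  | zero =>
    intro vs _ hlen
    have : vs = [] := List.length_eq_zero_iff.1 (by omega)
    rw [this]
    exact Subgroup.one_mem _
  | succ k ih =>
    intro vs hvs hlen
    match vs, hvs, hlen with
    | [], _, hlen => simp at hlen
    | [a], _, hlen => simp at hlen; omega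
    | a :: b :: vs, hvs, hlen =>
      rw [reflProd_cons, reflProd_cons, ← mul_assoc]
      apply Subgroup.mul_mem
      · exact refl_mul_refl_mem_commutator_char_two Q h2 hQ a b (hvs a (by simp)) (hvs b (by simp))
      · apply ih vs
        · intro v hv
          exact hvs v (by simp [hv])
        · simp only [List.length_cons] at hlen
          omega

/-- over any finite field: even length and square spinor norm imply membership in the commutator
subgroup -/
theorem reflProd_mem_commutator_of_even_of_isSquare (hQ : (polarBilin Q).Nondegenerate)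
    (vs : List V) (hvs : ∀ v ∈ vs, Q v ≠ 0) (he : Even vs.length)
    (hs : IsSquare (vs.map Q).prod) : reflProd Q vs ∈ commutator (OG Q) := by
  by_cases h2 : (2 : F) = 0
  · obtain ⟨k, hk⟩ := he
    exact reflProd_mem_commutator_of_even_char_two Q h2 hQ k vs hvs (by rw [hk]; ring)
  · exact (reflProd_mem_commutator_iff Q h2 hQ vs hvs).2 ⟨he, hs⟩

end EvenProd

end Cfsg.Agent.Lib.Helper49
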