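import Mathlib
import Cfsg.Agent.Lib.Helper49.CDEven

set_option autoImplicit false

namespace Cfsg.Agent.Lib.Helper49

open QuadraticMap Module

section Perp2

variable {F V : Type*} [Field F] [AddCommGroup V] [Module F V] (Q : QuadraticForm F V)

/-- the orthogonal complement of two vectors -/
def perp2 (a b : V) : Submodule F V :=
  LinearMap.ker (polarBilin Q a) ⊓ LinearMap.ker (polarBilin Q b)

theorem mem_perp2 {a b x : V} : x ∈ perp2 Q a b ↔ polar Q a x = 0 ∧ polar Q b x = 0 := by
  simp [perp2, LinearMap.mem_ker]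

/-- restriction of a quadratic form to a subspace -/
def resQ (W : Submodule F V) : QuadraticForm F W := Q.comp W.subtype

@[simp] theorem resQ_apply (W : Submodule F V) (x : W) : resQ Q W x = Q x := rfl

@[simp] theorem polar_resQ (W : Submodule F V) (x y : W) : polar (resQ Q W) x y = polar Q x y := by
  simp [polar]

theorem sub_mem_perp2 {a b : V} (haa : polar Q a a = 0) (hbb : polar Q b b = 0)
    (hab : polar Q a b = 1) (x : V) :
    x - polar Q b x • a - polar Q a x • b ∈ perp2 Q a b := by
  rw [mem_perp2]
  constructor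
  · rw [polar_sub_right, polar_sub_right, polar_smul_right, polar_smul_right, haa, hab]
    simp
  · rw [polar_sub_right, polar_sub_right, polar_smul_right, polar_smul_right, hbb,
      polar_comm Q b a, hab]
    simp

theorem nondegenerate_of_separatingLeft (h : ∀ x, (∀ y, polar Q x y = 0) → x = 0) :
    (polarBilin Q).Nondegenerate := by
  constructor
  · intro x hx
    exact h x hx
  · intro x hx
    apply h x
    intro y
    rw [polar_comm]
    exact hx y

theorem resQ_perp2_nondegenerate (hQ : (polarBilin Q).Nondegenerate) {a b : V}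
    (haa : polar Q a a = 0) (hbb : polar Q b b = 0) (hab : polar Q a b = 1) :
    (polarBilin (resQ Q (perp2 Q a b))).Nondegenerate := by
  apply nondegenerate_of_separatingLeft
  intro x hx
  apply Subtype.ext
  apply hQ.1
  intro z
  have h1 := hx ⟨_, sub_mem_perp2 Q haa hbb hab z⟩
  have h2 := (mem_perp2 Q).1 x.2
  rw [polar_resQ] at h1
  simp only at h1
  rw [polar_sub_right, polar_sub_right, polar_smul_right, polar_smul_right, polar_comm Q x.1 a,
    polar_comm Q x.1 b, h2.1, h2.2] at h1
  simpa using h1

theorem finrank_perp2 [FiniteDimensional F V] {a b : V}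
    (haa : polar Q a a = 0) (hab : polar Q a b = 1) :
    finrank F (perp2 Q a b) + 2 = finrank F V := by
  have h1 := finrank_inf_ker_add_one (⊤ : Submodule F V) (polarBilin Q a)
    ⟨b, trivial, by simp [hab]⟩
  have h2 := finrank_inf_ker_add_one (LinearMap.ker (polarBilin Q a)) (polarBilin Q b)
    ⟨a, by simp [LinearMap.mem_ker, haa], by simp [polar_comm Q b a, hab]⟩
  rw [top_inf_eq, finrank_top] at h1
  unfold perp2
  omega

theorem map_mem_perp2 {a b : V} (g : OG Q) (ha : g.1 a = a) (hb : g.1 b = b) {x : V}
    (hx : x ∈ perp2 Q a b) : g.1 x ∈ perp2 Q a b := by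
  rw [mem_perp2] at hx ⊢
  constructor
  · conv_lhs => rw [← ha]
    rw [OG_polar]; exact hx.1
  · conv_lhs => rw [← hb]
    rw [OG_polar]; exact hx.2

/-- restriction of an isometry to an invariant subspace -/
noncomputable def resOG (W : Submodule F V) (g : OG Q) (h1 : ∀ x ∈ W, g.1 x ∈ W)
    (h2 : ∀ x ∈ W, g.1.symm x ∈ W) : OG (resQ Q W) :=
  ⟨LinearEquiv.ofLinearMap ((g.1 : V →ₗ[F] V).restrict h1) ((g.1.symm : V →ₗ[F] V).restrict h2)
    (by ext; simp) (by ext; simp), fun x => by
      simp [OG_apply]⟩

theorem resOG_apply (W : Submodule F V) (g : OG Q) (h1 : ∀ x ∈ W, g.1 x ∈ W)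
    (h2 : ∀ x ∈ W, g.1.symm x ∈ W) (x : W) : (((resOG Q W g h1 h2).1 x : W) : V) = g.1 x := rfl

theorem coe_reflLin_resQ (W : Submodule F V) (y x : W) :
    ((reflLin (resQ Q W) y x : W) : V) = reflLin Q y x := by
  simp [reflLin_apply]

theorem coe_reflProd_resQ (W : Submodule F V) (vs : List W) (x : W) :
    (((reflProd (resQ Q W) vs).1 x : W) : V) = (reflProd Q (vs.map Subtype.val)).1 x := by
  induction vs generalizing x with
  | nil => simp
  | cons v vs ih =>
    simp only [reflProd_cons, Subgroup.coe_mul, LinearEquiv.mul_apply, refl_coe_apply,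
      List.map_cons, coe_reflLin_resQ, ih]

/-- an isometry fixing `a`, `b` and acting on their orthogonal complement as a product of
reflections is a product of reflections -/
theorem eq_reflProd_of_perp2 {a b : V} (haa : polar Q a a = 0) (hbb : polar Q b b = 0)
    (hab : polar Q a b = 1) (g : OG Q) (ha : g.1 a = a) (hb : g.1 b = b)
    (vs : List (perp2 Q a b))
    (h : ∀ x : perp2 Q a b, g.1 x = (((reflProd (resQ Q (perp2 Q a b)) vs).1 x : perp2 Q a b) : V)) :
    g = reflProd Q (vs.map Subtype.val) := by
  apply Subtype.ext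
  ext z
  have hfix : ∀ c : V, (∀ y ∈ perp2 Q a b, polar Q y c = 0) →
      (reflProd Q (vs.map Subtype.val)).1 c = c := by
    intro c hc
    apply reflProd_apply_of_ortho
    intro v hv
    obtain ⟨y, _, rfl⟩ := List.mem_map.1 hv
    exact hc _ y.2
  have hz : z = (z - polar Q b z • a - polar Q a z • b) + polar Q b z • a + polar Q a z • b := by
    abel
  rw [hz]
  simp only [map_add, map_smul]
  rw [ha, hb, hfix a (fun y hy => by rw [polar_comm]; exact ((mem_perp2 Q).1 hy).1),
    hfix b (fun y hy => by rw [polar_comm]; exact ((mem_perp2 Q).1 hy).2)]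
  congr 2
  have := h ⟨_, sub_mem_perp2 Q haa hbb hab z⟩
  rw [coe_reflProd_resQ] at this
  exact this

end Perp2

end Cfsg.Agent.Lib.Helper49
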