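import Mathlib
import Cfsg.Agent.Lib.Helper49.Perp2

set_option autoImplicit false

namespace Cfsg.Agent.Lib.Helper49

open QuadraticMap Module

universe u v

section A

variable {F : Type u} {V : Type v} [Field F] [AddCommGroup V] [Module F V] (Q : QuadraticForm F V)

theorem exists_polar_ne_zero (hQ : (polarBilin Q).Nondegenerate) {x : V} (hx : x ≠ 0) :
    ∃ z, polar Q x z ≠ 0 := by
  by_contra hcon
  push Not at hcon
  exact hx (hQ.1 x hcon)

theorem exists_polar_eq_one (hQ : (polarBilin Q).Nondegenerate) {x : V} (hx : x ≠ 0) :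
    ∃ z, polar Q x z = 1 := by
  obtain ⟨z, hz⟩ := exists_polar_ne_zero Q hQ hx
  refine ⟨(polar Q x z)⁻¹ • z, ?_⟩
  rw [polar_smul_right, smul_eq_mul, inv_mul_cancel₀ hz]

theorem exists_nonsingular_pair (h2 : (2 : F) = 0) (hQ : (polarBilin Q).Nondegenerate) {x : V}
    (hx : x ≠ 0) : ∃ a b, Q a ≠ 0 ∧ polar Q a b = 1 := by
  obtain ⟨z, hz⟩ := exists_polar_eq_one Q hQ hx
  by_cases h1 : Q x = 0
  · by_cases h3 : Q z = 0
    · refine ⟨x + z, z, ?_, ?_⟩
      · rw [Q_add_eq, h1, h3, hz]; simp
      · rw [polar_add_left, hz, polar_self_of_two_eq_zero Q h2, add_zero]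
    · exact ⟨z, x, h3, by rw [polar_comm, hz]⟩
  · exact ⟨x, z, h1, hz⟩

theorem ne_zero_of_Q_ne_zero' {x : V} (h : Q x ≠ 0) : x ≠ 0 := by
  rintro rfl
  simp at h

end A

/-- in characteristic two, the stabiliser of a nonsingular vector consists of products of
reflections (no exceptions) -/
theorem stab_eq_reflProd {F : Type u} [Field F] (h2 : (2 : F) = 0) : ∀ (n : ℕ) (V : Type v)
    [AddCommGroup V] [Module F V] [FiniteDimensional F V] (Q : QuadraticForm F V),
    finrank F V = n → (polarBilin Q).Nondegenerate → ∀ u₀ : V, Q u₀ ≠ 0 → ∀ g : OG Q,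
    g.1 u₀ = u₀ → ∃ vs : List V, (∀ z ∈ vs, Q z ≠ 0) ∧ g = reflProd Q vs := by
  intro n
  induction n using Nat.strong_induction_on with
  | _ n ih =>
    intro V _ _ _ Q hn hQ u₀ hu₀ g hg
    have hself := polar_self_of_two_eq_zero Q h2
    obtain ⟨w₀, hw₀⟩ := exists_polar_eq_one Q hQ (ne_zero_of_Q_ne_zero' Q hu₀)
    by_cases hW : ∃ x : perp2 Q u₀ w₀, x ≠ 0
    · obtain ⟨x, hx⟩ := hW
      obtain ⟨a, b, ha, hab⟩ := exists_nonsingular_pair (resQ Q (perp2 Q u₀ w₀)) h2
        (resQ_perp2_nondegenerate Q hQ (hself _) (hself _) hw₀) hx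
      obtain ⟨a, ha'⟩ := a
      obtain ⟨b, hb'⟩ := b
      simp only [resQ_apply, polar_resQ] at ha hab
      have hua : polar Q u₀ a = 0 := ((mem_perp2 Q).1 ha').1
      have hub : polar Q u₀ b = 0 := ((mem_perp2 Q).1 hb').1
      have hpol : ∀ (k : OG Q), k.1 u₀ = u₀ → ∀ y, polar Q u₀ (k.1 y) = polar Q u₀ y := by
        intro k hk y
        conv_lhs => rw [← hk]
        rw [OG_polar]
      obtain ⟨vs₁, h11, h12, h13⟩ := exists_reflProd_map_fix Q h2 u₀ a (g.1 a) b (g.1 b) hu₀ hua
        (by rw [hpol g hg, hua]) hub (by rw [hpol g hg, hub]) (by rw [hab]; exact one_ne_zero)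
        (by rw [OG_polar, hab]; exact one_ne_zero) (OG_apply Q g a)
      obtain ⟨g₁, hg₁⟩ : ∃ g₁, g₁ = reflProd Q vs₁ * g := ⟨_, rfl⟩
      have hg1a : g₁.1 a = a := by
        rw [hg₁, Subgroup.coe_mul, LinearEquiv.mul_apply, h12]
      have hg1u : g₁.1 u₀ = u₀ := by
        rw [hg₁, Subgroup.coe_mul, LinearEquiv.mul_apply, hg, h13]
      obtain ⟨vs₂, h21, h22, h23, h24⟩ := exists_reflProd_fix_map Q h2 a b (g₁.1 b) ha
        (by rw [hab]; exact one_ne_zero)
        (by conv_lhs => rw [← hg1a]
            rw [OG_polar]) (OG_apply Q g₁ b)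
      obtain ⟨g₂, hg₂⟩ : ∃ g₂, g₂ = reflProd Q vs₂ * g₁ := ⟨_, rfl⟩
      have hg2a : g₂.1 a = a := by
        rw [hg₂, Subgroup.coe_mul, LinearEquiv.mul_apply, hg1a, h23]
      have hg2b : g₂.1 b = b := by
        rw [hg₂, Subgroup.coe_mul, LinearEquiv.mul_apply, h22]
      have hg2u : g₂.1 u₀ = u₀ := by
        rw [hg₂, Subgroup.coe_mul, LinearEquiv.mul_apply, hg1u]
        apply h24
        · rw [polar_comm, hua]
        · rw [polar_comm, hpol g₁ hg1u, polar_comm]
      have hinv : ∀ c, g₂.1 c = c → g₂⁻¹.1 c = c := by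
        intro c hc
        conv_lhs => rw [← hc]
        rw [← LinearEquiv.mul_apply, ← Subgroup.coe_mul, inv_mul_cancel]
        rfl
      have hu₀W : u₀ ∈ perp2 Q a b := by
        rw [mem_perp2, polar_comm, hua, polar_comm, hub]
        exact ⟨rfl, rfl⟩
      have hfr := finrank_perp2 Q (hself a) hab
      obtain ⟨vs₃, h31, h32⟩ := ih (finrank F (perp2 Q a b)) (by omega) (perp2 Q a b)
        (resQ Q (perp2 Q a b)) rfl (resQ_perp2_nondegenerate Q hQ (hself _) (hself _) hab)
        ⟨u₀, hu₀W⟩ hu₀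
        (resOG Q (perp2 Q a b) g₂ (fun x hx => map_mem_perp2 Q g₂ hg2a hg2b hx)
          (fun x hx => map_mem_perp2 Q g₂⁻¹ (hinv a hg2a) (hinv b hg2b) hx))
        (by apply Subtype.ext; rw [resOG_apply]; exact hg2u)
      have h4 := eq_reflProd_of_perp2 Q (hself a) (hself b) hab g₂ hg2a hg2b vs₃ (by
        intro x
        rw [← h32, resOG_apply])
      refine ⟨vs₁.reverse ++ (vs₂.reverse ++ vs₃.map Subtype.val), ?_, ?_⟩
      · intro z hz
        rcases List.mem_append.1 hz with h | h
        · exact h11 z (List.mem_reverse.1 h)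
        · rcases List.mem_append.1 h with h | h
          · exact h21 z (List.mem_reverse.1 h)
          · obtain ⟨y, hy, rfl⟩ := List.mem_map.1 h
            exact h31 y hy
      · rw [reflProd_append, reflProd_append, reflProd_reverse, reflProd_reverse, ← h4, hg₂, hg₁]
        group
    · push Not at hW
      obtain ⟨vs₂, h21, h22, h23, -⟩ := exists_reflProd_fix_map Q h2 u₀ w₀ (g.1 w₀) hu₀
        (by rw [hw₀]; exact one_ne_zero)
        (by conv_lhs => rw [← hg]
            rw [OG_polar]) (OG_apply Q g w₀)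
      have h4 := eq_reflProd_of_perp2 Q (hself u₀) (hself w₀) hw₀ (reflProd Q vs₂ * g)
        (by rw [Subgroup.coe_mul, LinearEquiv.mul_apply, hg, h23])
        (by rw [Subgroup.coe_mul, LinearEquiv.mul_apply, h22]) [] (by
        intro x
        rw [hW x]
        simp)
      refine ⟨vs₂.reverse, fun z hz => h21 z (List.mem_reverse.1 hz), ?_⟩
      rw [reflProd_reverse]
      simp only [List.map_nil, reflProd_nil] at h4
      exact eq_inv_of_mul_eq_one_right h4

section B

variable {F : Type u} {V : Type v} [Field F] [AddCommGroup V] [Module F V] (Q : QuadraticForm F V)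

theorem two_mul_finrank_le_of_le_orthogonal [FiniteDimensional F V]
    (hQ : (polarBilin Q).Nondegenerate) (X : Submodule F V)
    (hX : ∀ x ∈ X, ∀ y ∈ X, polar Q x y = 0) : 2 * finrank F X ≤ finrank F V := by
  have h1 := LinearMap.BilinForm.finrank_orthogonal hQ X
  have h2 : X ≤ LinearMap.BilinForm.orthogonal (polarBilin Q) X := by
    intro x hx y hy
    exact hX y hy x hx
  have h3 := Submodule.finrank_mono h2
  have h4 := Submodule.finrank_le X
  omega

/-- existence of the auxiliary vector -/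
theorem exists_aux_vector [Fintype F] [FiniteDimensional F V] (h2 : (2 : F) = 0)
    (hQ : (polarBilin Q).Nondegenerate) (h : Fintype.card F ≠ 2 ∨ finrank F V ≠ 4) (u v : V)
    (huv : Q u = Q v) (hu : Q u ≠ 0) (hne : u ≠ v) (h0 : polar Q u v = 0) :
    ∃ y, Q y ≠ 0 ∧ polar Q y u ≠ 0 ∧ polar Q y v ≠ 0 := by
  have hself := polar_self_of_two_eq_zero Q h2
  have hu0 : u ≠ 0 := ne_zero_of_Q_ne_zero' Q hu
  have hv0 : v ≠ 0 := ne_zero_of_Q_ne_zero' Q (huv ▸ hu)
  have hy₀ : ∃ y₀, polar Q y₀ u ≠ 0 ∧ polar Q y₀ v ≠ 0 := by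
    obtain ⟨y₁, hy₁⟩ := exists_polar_ne_zero Q hQ hu0
    obtain ⟨y₂, hy₂⟩ := exists_polar_ne_zero Q hQ hv0
    rw [polar_comm] at hy₁ hy₂
    by_cases h3 : polar Q y₁ v = 0
    · by_cases h4 : polar Q y₂ u = 0
      · refine ⟨y₁ + y₂, ?_, ?_⟩
        · rw [polar_add_left, h4, add_zero]; exact hy₁
        · rw [polar_add_left, h3, zero_add]; exact hy₂
      · exact ⟨y₂, h4, hy₂⟩
    · exact ⟨y₁, hy₁, h3⟩
  obtain ⟨y₀, h5, h6⟩ := hy₀
  by_cases h7 : Q y₀ = 0
  swap
  · exact ⟨y₀, h7, h5, h6⟩
  by_cases hq : Fintype.card F = 2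
  · -- dimension argument
    have hn : finrank F V ≠ 4 := by tauto
    have hli : LinearIndependent F ![u, v] := by
      rw [LinearIndependent.pair_iff' hu0]
      intro c hc
      have h8 : Q v = c * c * Q u := by rw [← hc, QuadraticMap.map_smul, smul_eq_mul]
      have h9 : (c - 1) * (c - 1) = 0 := by
        have : (c * c - 1) * Q u = 0 := by rw [sub_mul, ← h8, huv]; ring
        have h10 : c * c - 1 = 0 := by
          rcases mul_eq_zero.1 this with h | h
          · exact h
          · exact absurd h hu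
        linear_combination h10 - c * h2 + h2
      have h10 : c = 1 := by
        have := mul_self_eq_zero.1 h9
        linear_combination this
      apply hne
      rw [← hc, h10, one_smul]
    obtain ⟨S, hS⟩ : ∃ S : Submodule F V, S = Submodule.span F (Set.range ![u, v]) := ⟨_, rfl⟩
    have hSfr : finrank F S = 2 := by
      rw [hS, finrank_span_eq_card hli]
      simp
    have huS : u ∈ S := by
      rw [hS]; exact Submodule.subset_span ⟨0, rfl⟩
    have hvS : v ∈ S := by
      rw [hS]; exact Submodule.subset_span ⟨1, rfl⟩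
    have hSle : ∀ z, polar Q u z = 0 → polar Q v z = 0 → ∀ s ∈ S, polar Q s z = 0 := by
      intro z hz1 hz2 s hs
      have : S ≤ LinearMap.ker ((polarBilin Q).flip z) := by
        rw [hS, Submodule.span_le]
        rintro _ ⟨i, rfl⟩
        fin_cases i
        · simpa [LinearMap.mem_ker] using hz1
        · simpa [LinearMap.mem_ker] using hz2
      simpa [LinearMap.mem_ker] using this hs
    have hSS : ∀ x ∈ S, ∀ y ∈ S, polar Q x y = 0 := by
      intro x hx y hy
      apply hSle y _ _ x hx
      · rw [polar_comm]; exact hSle u (hself u) (by rw [polar_comm, h0]) y hy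
      · rw [polar_comm]; exact hSle v h0 (hself v) y hy
    have h8 := two_mul_finrank_le_of_le_orthogonal Q hQ S hSS
    have h9 := LinearMap.BilinForm.finrank_orthogonal hQ S
    by_contra hcon
    push Not at hcon
    have h10 : ∀ x ∈ LinearMap.BilinForm.orthogonal (polarBilin Q) S, Q x = - polar Q y₀ x := by
      intro x hx
      have h11 : polar Q x u = 0 := by rw [polar_comm]; exact hx u huS
      have h12 : polar Q x v = 0 := by rw [polar_comm]; exact hx v hvS
      by_contra h13
      have h15 := hcon (y₀ + x) (by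
        rw [Q_add_eq, h7]
        intro h14
        apply h13
        linear_combination h14) (by rw [polar_add_left, h11, add_zero]; exact h5)
      rw [polar_add_left, h12, add_zero] at h15
      exact h6 h15
    have h11 := two_mul_finrank_le_of_le_orthogonal Q hQ _ (by
      intro x hx y hy
      have := h10 (x + y) (Submodule.add_mem _ hx hy)
      rw [Q_add_eq, h10 x hx, h10 y hy, polar_add_right] at this
      linear_combination this)
    omega
  · obtain ⟨t, ht0, ht1⟩ : ∃ t : F, t ≠ 0 ∧ t * Q u + polar Q y₀ u ≠ 0 := by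
      by_contra hcon
      push Not at hcon
      apply hq
      rw [← Nat.card_eq_fintype_card, Nat.card_eq_two_iff]
      refine ⟨0, - polar Q y₀ u / Q u, ?_, ?_⟩
      · intro h8
        have := h8.symm
        rw [div_eq_zero_iff, neg_eq_zero] at this
        tauto
      · ext x
        simp only [Set.mem_insert_iff, Set.mem_singleton_iff, Set.mem_univ, iff_true]
        by_cases hx : x = 0
        · exact Or.inl hx
        · right
          have := hcon x hx
          field_simp
          linear_combination this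
    refine ⟨y₀ + t • u, ?_, ?_, ?_⟩
    · rw [Q_add_eq, h7, QuadraticMap.map_smul, polar_smul_right, smul_eq_mul, smul_eq_mul]
      have : 0 + t * t * Q u + t * polar Q y₀ u = t * (t * Q u + polar Q y₀ u) := by ring
      rw [this]
      exact mul_ne_zero ht0 ht1
    · rw [polar_add_left, polar_smul_left, hself, smul_zero, add_zero]; exact h5
    · rw [polar_add_left, polar_smul_left, h0, smul_zero, add_zero]; exact h6

/-- transitivity of products of reflections on nonsingular vectors of given norm -/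
theorem exists_reflProd_map_char_two [Fintype F] [FiniteDimensional F V] (h2 : (2 : F) = 0)
    (hQ : (polarBilin Q).Nondegenerate) (h : Fintype.card F ≠ 2 ∨ finrank F V ≠ 4) (u v : V)
    (huv : Q u = Q v) (hu : Q u ≠ 0) :
    ∃ vs : List V, (∀ z ∈ vs, Q z ≠ 0) ∧ (reflProd Q vs).1 u = v := by
  by_cases hne : u = v
  · exact ⟨[], by simp, by simp [hne]⟩
  by_cases h0 : Q (u - v) = 0
  · have h1 : polar Q u v = 0 := by
      have := Q_sub_smul Q u v 1
      simp only [one_smul, one_pow, one_mul] at this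
      rw [h0, huv, polar_comm] at this
      linear_combination this + Q v * h2
    obtain ⟨y, hy1, hy2, hy3⟩ := exists_aux_vector Q h2 hQ h u v huv hu hne h1
    obtain ⟨vs, h3, h4, -⟩ := exists_reflProd_map_aux Q u v y huv h0 hy1 hy2 hy3
    exact ⟨vs, h3, h4⟩
  · refine ⟨[u - v], ?_, ?_⟩
    · intro z hz
      simp only [List.mem_cons, List.not_mem_nil, or_false] at hz
      rw [hz]; exact h0
    · simp [reflLin_sub_apply Q u v huv h0]

/-- **generation by reflections in characteristic two** -/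
theorem exists_reflProd_eq_char_two [Fintype F] [FiniteDimensional F V] (h2 : (2 : F) = 0)
    (hQ : (polarBilin Q).Nondegenerate) (h : Fintype.card F ≠ 2 ∨ finrank F V ≠ 4) (g : OG Q) :
    ∃ vs : List V, (∀ z ∈ vs, Q z ≠ 0) ∧ g = reflProd Q vs := by
  by_cases hV : ∃ x : V, x ≠ 0
  · obtain ⟨x, hx⟩ := hV
    obtain ⟨u₀, -, hu₀, -⟩ := exists_nonsingular_pair Q h2 hQ hx
    obtain ⟨vs₁, h11, h12⟩ := exists_reflProd_map_char_two Q h2 hQ h (g.1 u₀) u₀ (OG_apply Q g u₀)
      (by rw [OG_apply]; exact hu₀)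
    obtain ⟨vs₂, h21, h22⟩ := stab_eq_reflProd h2 _ V Q rfl hQ u₀ hu₀ (reflProd Q vs₁ * g)
      (by rw [Subgroup.coe_mul, LinearEquiv.mul_apply, h12])
    refine ⟨vs₁.reverse ++ vs₂, ?_, ?_⟩
    · intro z hz
      rcases List.mem_append.1 hz with h | h
      · exact h11 z (List.mem_reverse.1 h)
      · exact h21 z h
    · rw [reflProd_append, reflProd_reverse, ← h22]
      group
  · push Not at hV
    refine ⟨[], by simp, ?_⟩
    apply Subtype.ext
    ext x
    rw [hV x, hV (g.1 0)]
    simp

/-- generation by reflections over any finite field -/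
theorem exists_reflProd_eq_finite [Fintype F] [FiniteDimensional F V]
    (hQ : (polarBilin Q).Nondegenerate) (h : Fintype.card F ≠ 2 ∨ finrank F V ≠ 4) (g : OG Q) :
    ∃ vs : List V, (∀ z ∈ vs, Q z ≠ 0) ∧ g = reflProd Q vs := by
  by_cases h2 : (2 : F) = 0
  · exact exists_reflProd_eq_char_two Q h2 hQ h g
  · exact exists_reflProd_eq Q h2 hQ g

end B

end Cfsg.Agent.Lib.Helper49
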