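import Mathlib
import Cfsg.Agent.Lib.Helper49.CDEvenMain
import Cfsg.Agent.Lib.Helper49.Transfer

set_option autoImplicit false

namespace Cfsg.Agent.Lib.Helper49

open Matrix QuadraticMap

section GenMat

variable {ι : Type} [Fintype ι] [DecidableEq ι] {F : Type*} [Field F] [Fintype F]
variable (Q : QuadraticForm F (ι → F))

/-- every isometry is a product of reflections (matrix groups over finite fields) -/
theorem exists_isoEquiv_eq_reflProd (hQ : (polarBilin Q).Nondegenerate)
    (h : Fintype.card F ≠ 2 ∨ Fintype.card ι ≠ 4) (g : ↥(Cfsg.isometryGroup F ⇑Q)) :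
    ∃ vs : List (ι → F), (∀ z ∈ vs, Q z ≠ 0) ∧ isoEquiv Q g = reflProd Q vs :=
  exists_reflProd_eq_finite Q hQ (by rwa [Module.finrank_fintype_fun_eq_card]) (isoEquiv Q g)

omit [Fintype F] in
theorem coe_isoEquiv_symm_refl (v : ι → F) :
    ((((isoEquiv Q).symm (refl Q v) : ↥(Cfsg.isometryGroup F ⇑Q)) :
      Matrix.GeneralLinearGroup ι F) : Matrix ι ι F) = Cfsg.reflectionMatrix ⇑Q v := by
  have := coe_isoEquiv_symm_reflProd Q [v]
  simpa using this

theorem closure_reflections_eq_top (hQ : (polarBilin Q).Nondegenerate)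
    (h : Fintype.card F ≠ 2 ∨ Fintype.card ι ≠ 4) :
    Subgroup.closure {g : ↥(Cfsg.isometryGroup F ⇑Q) | ∃ v : ι → F, Q v ≠ 0 ∧
      ((g : Matrix.GeneralLinearGroup ι F) : Matrix ι ι F) = Cfsg.reflectionMatrix ⇑Q v} = ⊤ := by
  rw [eq_top_iff]
  intro g _
  obtain ⟨vs, hvs, hg⟩ := exists_isoEquiv_eq_reflProd Q hQ h g
  have hg' : g = (isoEquiv Q).symm (reflProd Q vs) := by
    rw [← hg, MulEquiv.symm_apply_apply]
  rw [hg']
  clear hg hg'
  induction vs with
  | nil => simp
  | cons v vs ih =>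
    rw [reflProd_cons, map_mul]
    apply Subgroup.mul_mem
    · apply Subgroup.subset_closure
      exact ⟨v, hvs v List.mem_cons_self, coe_isoEquiv_symm_refl Q v⟩
    · exact ih (fun z hz => hvs z (List.mem_cons_of_mem _ hz))

end GenMat

end Cfsg.Agent.Lib.Helper49
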