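import Mathlib
import Cfsg.Agent.Lib.Helper49.GenMat
import Cfsg.Agent.Lib.Helper49.EvenProd

set_option autoImplicit false

namespace Cfsg.Agent.Lib.Helper49

open Matrix QuadraticMap Module

section Abs

variable {F V : Type*} [Field F] [Fintype F] [AddCommGroup V] [Module F V] [FiniteDimensional F V]
  (Q : QuadraticForm F V)

/-- spinor norm / Dickson criterion over any finite field -/
theorem reflProd_mem_commutator_iff_finite (hQ : (polarBilin Q).Nondegenerate)
    (h : Fintype.card F ≠ 2 ∨ finrank F V ≠ 4) (vs : List V) (hvs : ∀ v ∈ vs, Q v ≠ 0) :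
    reflProd Q vs ∈ commutator (OG Q) ↔ Even vs.length ∧ IsSquare (vs.map Q).prod := by
  constructor
  · intro hm
    obtain ⟨ws, k1, k2, k3, k4⟩ := commutator_le_spinKer Q (exists_reflProd_eq_finite Q hQ h) hm
    obtain ⟨e1, e2⟩ := reflProd_eq_reflProd Q hQ vs ws hvs k1 k4
    refine ⟨?_, ?_⟩
    · exact (Nat.even_add.1 e1).2 k2
    · rw [mul_comm] at e2
      exact (isSquare_mul_iff_of_isSquare k3 (prod_Q_ne_zero Q ws k1)).1 e2
  · rintro ⟨h1, h3⟩
    exact reflProd_mem_commutator_of_even_of_isSquare Q hQ vs hvs h1 h3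

theorem reflProd_mem_commutator_iff_char_two (h2 : (2 : F) = 0)
    (hQ : (polarBilin Q).Nondegenerate)
    (h : Fintype.card F ≠ 2 ∨ finrank F V ≠ 4) (vs : List V) (hvs : ∀ v ∈ vs, Q v ≠ 0) :
    reflProd Q vs ∈ commutator (OG Q) ↔ Even vs.length := by
  rw [reflProd_mem_commutator_iff_finite Q hQ h vs hvs]
  exact ⟨fun h => h.1, fun h => ⟨h, isSquare_of_two_eq_zero h2 _⟩⟩

theorem index_commutator_char_two (h2 : (2 : F) = 0) (hQ : (polarBilin Q).Nondegenerate)
    (h : Fintype.card F ≠ 2 ∨ finrank F V ≠ 4) (hV : ∃ x : V, x ≠ 0) :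
    (commutator (OG Q)).index = 2 := by
  obtain ⟨x, hx⟩ := hV
  obtain ⟨u₀, -, hu₀, -⟩ := exists_nonsingular_pair Q h2 hQ hx
  rw [Subgroup.index_eq_two_iff]
  refine ⟨refl Q u₀, fun b => ?_⟩
  obtain ⟨vs, hvs, rfl⟩ := exists_reflProd_eq_finite Q hQ h b
  have e : reflProd Q vs * refl Q u₀ = reflProd Q (vs ++ [u₀]) := by simp
  rw [e, reflProd_mem_commutator_iff_char_two Q h2 hQ h vs hvs,
    reflProd_mem_commutator_iff_char_two Q h2 hQ h (vs ++ [u₀]) (by
      intro v hv
      rcases List.mem_append.1 hv with h | h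
      · exact hvs v h
      · simp only [List.mem_cons, List.not_mem_nil, or_false] at h
        rw [h]; exact hu₀)]
  simp only [List.length_append, List.length_cons, List.length_nil, zero_add]
  rw [Nat.even_add_one]
  by_cases he : Even vs.length
  · exact Or.inr ⟨he, by simpa using he⟩
  · exact Or.inl ⟨he, he⟩

end Abs

section Mat

variable {ι : Type} [Fintype ι] [DecidableEq ι] {F : Type*} [Field F] [Fintype F]
variable (Q : QuadraticForm F (ι → F))

theorem index_eq_of_mulEquiv {G H : Type*} [Group G] [Group H] (e : G ≃* H) :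
    (commutator G).index = (commutator H).index := by
  have : commutator G = (commutator H).comap e.toMonoidHom := by
    ext g
    rw [Subgroup.mem_comap]
    exact mem_commutator_iff_of_mulEquiv e g
  rw [this]
  exact Subgroup.index_comap_of_surjective _ e.surjective

theorem index_Omega_char_two (h2 : (2 : F) = 0) (hQ : (polarBilin Q).Nondegenerate)
    (h : Fintype.card F ≠ 2 ∨ Fintype.card ι ≠ 4) [Nonempty ι] :
    (Cfsg.Omega F ⇑Q).index = 2 := by
  have h1 := index_commutator_char_two Q h2 hQ (by rwa [Module.finrank_fintype_fun_eq_card])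
    ⟨fun _ => 1, fun h0 => one_ne_zero (congrFun h0 (Classical.arbitrary ι))⟩
  rw [← h1]
  exact index_eq_of_mulEquiv (isoEquiv Q)

theorem mem_Omega_iff_even_char_two (h2 : (2 : F) = 0) (hQ : (polarBilin Q).Nondegenerate)
    (h : Fintype.card F ≠ 2 ∨ Fintype.card ι ≠ 4) (g : ↥(Cfsg.isometryGroup F ⇑Q))
    (vs : List (ι → F)) (hvs : ∀ v ∈ vs, Q v ≠ 0) (hg : isoEquiv Q g = reflProd Q vs) :
    g ∈ Cfsg.Omega F ⇑Q ↔ Even vs.length := by
  rw [mem_Omega_iff, hg, reflProd_mem_commutator_iff_char_two Q h2 hQ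
    (by rwa [Module.finrank_fintype_fun_eq_card]) vs hvs]

theorem Omega_eq_closure_char_two (h2 : (2 : F) = 0) (hQ : (polarBilin Q).Nondegenerate)
    (h : Fintype.card F ≠ 2 ∨ Fintype.card ι ≠ 4) :
    Cfsg.Omega F ⇑Q = Subgroup.closure {g : ↥(Cfsg.isometryGroup F ⇑Q) | ∃ u v : ι → F,
      Q u ≠ 0 ∧ Q v ≠ 0 ∧ ((g : Matrix.GeneralLinearGroup ι F) : Matrix ι ι F) =
        Cfsg.reflectionMatrix ⇑Q u * Cfsg.reflectionMatrix ⇑Q v} := by
  apply le_antisymm
  · intro g hg
    obtain ⟨vs, hvs, hgv⟩ := exists_isoEquiv_eq_reflProd Q hQ h g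
    obtain ⟨k, hk⟩ := (mem_Omega_iff_even_char_two Q h2 hQ h g vs hvs hgv).1 hg
    have hg' : g = (isoEquiv Q).symm (reflProd Q vs) := by
      rw [← hgv, MulEquiv.symm_apply_apply]
    rw [hg']
    clear hg hg' hgv
    induction k generalizing vs with
    | zero =>
      have : vs = [] := List.length_eq_zero_iff.1 (by omega)
      rw [this]
      simp
    | succ k ih =>
      match vs, hvs, hk with
      | [], _, hlen => simp at hlen
      | [a], _, hlen => simp at hlen; omega
      | a :: b :: vs, hvs, hlen =>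
        rw [reflProd_cons, reflProd_cons, ← mul_assoc, map_mul]
        apply Subgroup.mul_mem
        · apply Subgroup.subset_closure
          refine ⟨a, b, hvs a (by simp), hvs b (by simp), ?_⟩
          have := coe_isoEquiv_symm_reflProd Q [a, b]
          simpa using this
        · apply ih vs
          · intro v hv
            exact hvs v (by simp [hv])
          · simp only [List.length_cons] at hlen
            omega
  · rw [Subgroup.closure_le]
    rintro g ⟨u, v, hu, hv, hg⟩
    have hgv : isoEquiv Q g = reflProd Q [u, v] := isoEquiv_eq_reflProd Q g [u, v] (by simpa using hg)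
    exact (mem_Omega_iff_even_char_two Q h2 hQ h g [u, v] (by
      intro z hz
      simp only [List.mem_cons, List.not_mem_nil, or_false] at hz
      rcases hz with rfl | rfl
      · exact hu
      · exact hv) hgv).2 ⟨1, rfl⟩

end Mat

end Cfsg.Agent.Lib.Helper49
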