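import Mathlib
import Cfsg.Agent.Lib.Helper49.Lagr
import Cfsg.Agent.Lib.Helper49.HypPairs

set_option autoImplicit false

namespace Cfsg.Agent.Lib.Helper49

open QuadraticMap Module

section PlusLagr

variable {m : ℕ} {F : Type*} [Field F]

theorem finrank_plus_space : finrank F (Fin m ⊕ Fin m → F) = 2 * m := by
  simp [two_mul]

theorem isLagr_plus {U : Submodule F (Fin m ⊕ Fin m → F)} (hd : finrank F U = m)
    (hU : ∀ u ∈ U, Cfsg.quadFormPlus m F u = 0) : IsLagr (plusQF m F) U := by
  apply isLagr_of_finrank (plusQF_nondegenerate m F)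
  · intro u hu
    rw [plusQF_coe]
    exact hU u hu
  · rw [hd, finrank_plus_space]

theorem IsLagr.finrank_plus {U : Submodule F (Fin m ⊕ Fin m → F)} (hU : IsLagr (plusQF m F) U) :
    finrank F U = m := by
  have := hU.finrank_eq (plusQF_nondegenerate m F)
  rw [finrank_plus_space] at this
  omega

/-- the standard Lagrangian `{y = 0}` -/
abbrev stdLagr (m : ℕ) (F : Type*) [Field F] : Submodule F (Fin m ⊕ Fin m → F) :=
  LinearMap.ker (LinearMap.funLeft F F (Sum.inr : Fin m → Fin m ⊕ Fin m))

theorem mem_stdLagr {v : Fin m ⊕ Fin m → F} : v ∈ stdLagr m F ↔ ∀ i, v (Sum.inr i) = 0 := by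
  rw [LinearMap.mem_ker]
  constructor
  · intro h i
    exact congrFun h i
  · intro h
    funext i
    exact h i

theorem finrank_stdLagr : finrank F (stdLagr m F) = m := by
  have h1 := LinearMap.finrank_range_add_finrank_ker
    (LinearMap.funLeft F F (Sum.inr : Fin m → Fin m ⊕ Fin m))
  have h2 : LinearMap.range (LinearMap.funLeft F F (Sum.inr : Fin m → Fin m ⊕ Fin m)) = ⊤ :=
    LinearMap.range_eq_top.2 (LinearMap.funLeft_surjective_of_injective F F _ Sum.inr_injective)
  rw [h2, finrank_top, finrank_plus_space] at h1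
  simp only [finrank_fintype_fun_eq_card, Fintype.card_fin] at h1
  change finrank F (LinearMap.ker (LinearMap.funLeft F F (Sum.inr : Fin m → Fin m ⊕ Fin m))) = m
  omega

theorem isLagr_stdLagr : IsLagr (plusQF m F) (stdLagr m F) := by
  apply isLagr_plus finrank_stdLagr
  intro u hu
  rw [mem_stdLagr] at hu
  simp [Cfsg.quadFormPlus, hu]

/-- triangle parity for the two families -/
theorem even_codim_triangle {U W X : Submodule F (Fin m ⊕ Fin m → F)}
    (hU : IsLagr (plusQF m F) U) (hW : IsLagr (plusQF m F) W) (hX : IsLagr (plusQF m F) X) :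
    Even ((m - finrank F ↥(U ⊓ W)) + (m - finrank F ↥(W ⊓ X)) + (m - finrank F ↥(U ⊓ X))) := by
  have hUm := hU.finrank_plus
  have hWm := hW.finrank_plus
  have ha : finrank F ↥(U ⊓ W) ≤ m :=
    (Submodule.finrank_mono inf_le_left).trans hUm.le
  have hb : finrank F ↥(W ⊓ X) ≤ m :=
    (Submodule.finrank_mono inf_le_left).trans hWm.le
  have hc : finrank F ↥(U ⊓ X) ≤ m :=
    (Submodule.finrank_mono inf_le_left).trans hUm.le
  obtain ⟨vs, hvs, hlen, hmap⟩ := hU.exists_reflProd_map (m - finrank F ↥(U ⊓ W)) W hW (by omega)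
  have := hX.even_finrank_inf_map_reflProd (plusQF_nondegenerate m F) hW vs (by
    intro v hv
    rw [hvs v hv]; simp)
  rw [hmap, hlen, inf_comm X U, inf_comm X W] at this
  rw [Nat.even_iff] at this ⊢
  omega

end PlusLagr

end Cfsg.Agent.Lib.Helper49
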