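import Mathlib
import Cfsg.Agent.Lib.Helper49.PlusLagr
import Cfsg.Agent.Lib.Helper49.Transfer
import Cfsg.Agent.Lib.Helper17.Refl

set_option autoImplicit false

namespace Cfsg.Agent.Lib.Helper49

open QuadraticMap Module Matrix

section PlusParity

variable {ι : Type} [Fintype ι] [DecidableEq ι] {F : Type*} [Field F]

theorem mulVecLin_eq_isoEquiv (Q : QuadraticForm F (ι → F)) (g : ↥(Cfsg.isometryGroup F ⇑Q)) :
    Matrix.mulVecLin ((g : Matrix.GeneralLinearGroup ι F) : Matrix ι ι F) =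
      ((isoEquiv Q g).1 : (ι → F) →ₗ[F] (ι → F)) := by
  ext x : 1
  rfl

theorem det_reflectionMatrix_prod (Q : QuadraticForm F (ι → F)) (vs : List (ι → F))
    (hvs : ∀ v ∈ vs, Q v ≠ 0) :
    ((vs.map (fun v => Cfsg.reflectionMatrix ⇑Q v)).prod).det = (-1) ^ vs.length := by
  induction vs with
  | nil => simp
  | cons v vs ih =>
    simp only [List.map_cons, List.prod_cons, List.length_cons, Matrix.det_mul]
    rw [ih (fun u hu => hvs u (List.mem_cons_of_mem _ hu)),
      Cfsg.Agent.Lib.Helper17.reflectionMatrix_det Q v (hvs v List.mem_cons_self), pow_succ]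
    ring

theorem det_of_isoEquiv_eq_reflProd (Q : QuadraticForm F (ι → F))
    (g : ↥(Cfsg.isometryGroup F ⇑Q)) (vs : List (ι → F)) (hvs : ∀ v ∈ vs, Q v ≠ 0)
    (hg : isoEquiv Q g = reflProd Q vs) :
    ((g : Matrix.GeneralLinearGroup ι F) : Matrix ι ι F).det = (-1) ^ vs.length := by
  have : g = (isoEquiv Q).symm (reflProd Q vs) := by
    rw [← hg, MulEquiv.symm_apply_apply]
  rw [this, coe_isoEquiv_symm_reflProd, det_reflectionMatrix_prod Q vs hvs]

variable {m : ℕ}

/-- for the hyperbolic form, the class of `g U₀` is given by the parity of the number of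
reflections -/
theorem plus_parity (g : ↥(Cfsg.isometryGroup F ⇑(plusQF m F))) (vs : List (Fin m ⊕ Fin m → F))
    (hvs : ∀ v ∈ vs, plusQF m F v ≠ 0) (hg : isoEquiv (plusQF m F) g = reflProd (plusQF m F) vs) :
    Even (m - finrank F ↥(stdLagr m F ⊓ (stdLagr m F).map (Matrix.mulVecLin
      ((g : Matrix.GeneralLinearGroup (Fin m ⊕ Fin m) F) :
        Matrix (Fin m ⊕ Fin m) (Fin m ⊕ Fin m) F)))) ↔ Even vs.length := by
  rw [mulVecLin_eq_isoEquiv, hg]
  have hL := isLagr_stdLagr (m := m) (F := F)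
  have h1 := hL.even_finrank_inf_map_reflProd (plusQF_nondegenerate m F) hL vs hvs
  rw [inf_idem, finrank_stdLagr] at h1
  have h2 : finrank F ↥(stdLagr m F ⊓ (stdLagr m F).map
      ((reflProd (plusQF m F) vs).1 : (Fin m ⊕ Fin m → F) →ₗ[F] (Fin m ⊕ Fin m → F))) ≤ m :=
    (Submodule.finrank_mono inf_le_left).trans finrank_stdLagr.le
  rw [Nat.even_iff] at h1 ⊢
  rw [Nat.even_iff]
  omega

end PlusParity

end Cfsg.Agent.Lib.Helper49
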