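import Mathlib
import Cfsg.Agent.Lib.Helper49.FixParity
import Cfsg.Agent.Lib.Helper49.OmegaCrit
import Cfsg.Agent.Lib.Helper49.PlusParity

set_option autoImplicit false

namespace Cfsg.Agent.Lib.Helper49

open Matrix QuadraticMap Module

section Mat

variable {ι : Type} [Fintype ι] [DecidableEq ι] {F : Type*} [Field F]
variable (Q : QuadraticForm F (ι → F))

theorem mulVecLin_sub_one_eq_dOG (g : ↥(Cfsg.isometryGroup F ⇑Q)) :
    Matrix.mulVecLin (((g : Matrix.GeneralLinearGroup ι F) : Matrix ι ι F) - 1) =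
      dOG Q (isoEquiv Q g) := by
  apply LinearMap.ext
  intro x
  rw [Matrix.mulVecLin_apply, Matrix.sub_mulVec, Matrix.one_mulVec, dOG_apply, isoEquiv_apply]

theorem rank_sub_one_eq (g : ↥(Cfsg.isometryGroup F ⇑Q)) :
    (((g : Matrix.GeneralLinearGroup ι F) : Matrix ι ι F) - 1).rank =
      finrank F (LinearMap.range (dOG Q (isoEquiv Q g))) := by
  rw [Matrix.rank, mulVecLin_sub_one_eq_dOG]

variable [Fintype F]

/-- characteristic two: `g ∈ Ω` iff `g - 1` has even rank -/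
theorem mem_Omega_iff_even_rank (h2 : (2 : F) = 0) (hQ : (polarBilin Q).Nondegenerate)
    (h : Fintype.card F ≠ 2 ∨ Fintype.card ι ≠ 4) (g : ↥(Cfsg.isometryGroup F ⇑Q)) :
    g ∈ Cfsg.Omega F ⇑Q ↔ Even (((g : Matrix.GeneralLinearGroup ι F) : Matrix ι ι F) - 1).rank := by
  obtain ⟨vs, hvs, hg⟩ := exists_isoEquiv_eq_reflProd Q hQ h g
  rw [mem_Omega_iff_even_char_two Q h2 hQ h g vs hvs hg, rank_sub_one_eq, hg,
    even_finrank_range_dOG_reflProd_iff Q hQ vs hvs]

theorem minus_disc_ne_zero (a b : F)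
    (hab : ∀ z₁ z₂ : F, z₁ ^ 2 + a * z₁ * z₂ + b * z₂ ^ 2 = 0 → z₁ = 0 ∧ z₂ = 0) :
    4 * b - a ^ 2 ≠ 0 := by
  intro h0
  by_cases h2 : (2 : F) = 0
  · have ha : a = 0 := by
      have : a ^ 2 = 0 := by linear_combination -h0 + 2 * b * h2
      exact pow_eq_zero_iff (two_ne_zero) |>.1 this
    obtain ⟨r, hr⟩ := isSquare_of_two_eq_zero h2 b
    have := hab r 1 (by rw [ha, hr]; linear_combination r * r * h2)
    exact one_ne_zero this.2
  · have := hab (-a / 2) 1 (by
      field_simp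
      linear_combination h0)
    exact one_ne_zero this.2

end Mat

end Cfsg.Agent.Lib.Helper49
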