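import Mathlib
import Cfsg.Agent.Lib.Helper49.RankParity
import Cfsg.Agent.S0760

set_option autoImplicit false

namespace Cfsg.Agent.Lib.Helper49

open Matrix QuadraticMap Module

section Abs

variable {F V : Type*} [Field F] [AddCommGroup V] [Module F V] (Q : QuadraticForm F V)

theorem dOG_dOG_of_involution (h2 : (2 : F) = 0) (t : OG Q) (ht : t * t = 1) (x : V) :
    dOG Q t (dOG Q t x) = 0 := by
  have h1 : t.1 (t.1 x) = x := by
    rw [← LinearEquiv.mul_apply, ← Subgroup.coe_mul, ht]; rfl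
  simp only [dOG_apply, map_sub, h1]
  have : x - t.1 x - (t.1 x - x) = (2 : F) • (x - t.1 x) := by
    rw [two_smul]; abel
  rw [this, h2, zero_smul]

theorem isLagr_range_dOG_of_singular [FiniteDimensional F V] (h2 : (2 : F) = 0)
    (hQ : (polarBilin Q).Nondegenerate) (t : OG Q) (ht : t * t = 1)
    (hs : ∀ y, t.1 y = y → Q y = 0) :
    IsLagr Q (LinearMap.range (dOG Q t)) ∧ LinearMap.ker (dOG Q t) = LinearMap.range (dOG Q t) := by
  have hs' : ∀ y ∈ LinearMap.ker (dOG Q t), Q y = 0 := fun y hy => hs y ((mem_ker_dOG Q).1 hy)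
  have hker : LinearMap.ker (dOG Q t) = LinearMap.range (dOG Q t) := by
    apply le_antisymm
    · rw [range_dOG Q hQ]
      intro x hx y hy
      exact polar_eq_zero_of_singular hs' hy hx
    · rintro _ ⟨x, rfl⟩
      exact dOG_dOG_of_involution Q h2 t ht x
  refine ⟨⟨?_, ?_⟩, hker⟩
  · rw [← hker]; exact hs'
  · conv_lhs => rw [← hker]
    rw [← range_dOG Q hQ]

theorem range_dOG_conj (g t : OG Q) :
    LinearMap.range (dOG Q (g * t * g⁻¹)) = (LinearMap.range (dOG Q t)).map (g.1 : V →ₗ[F] V) := by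
  ext y
  constructor
  · rintro ⟨x, rfl⟩
    refine ⟨dOG Q t (g⁻¹.1 x), ⟨_, rfl⟩, ?_⟩
    have h1 : g.1 (g⁻¹.1 x) = x := by
      rw [← LinearEquiv.mul_apply, ← Subgroup.coe_mul, mul_inv_cancel]; rfl
    simp only [dOG_apply, LinearEquiv.coe_coe, map_sub, h1, Subgroup.coe_mul, LinearEquiv.mul_apply]
  · rintro ⟨_, ⟨x, rfl⟩, rfl⟩
    refine ⟨g.1 x, ?_⟩
    have h1 : g⁻¹.1 (g.1 x) = x := by
      rw [← LinearEquiv.mul_apply, ← Subgroup.coe_mul, inv_mul_cancel]; rfl
    simp only [dOG_apply, LinearEquiv.coe_coe, map_sub, h1, Subgroup.coe_mul, LinearEquiv.mul_apply]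

variable [Fintype F] [FiniteDimensional F V]

/-- if `t` fixes a nonsingular vector, conjugacy under `O` implies conjugacy under `Ω` -/
theorem exists_commutator_conj_of_fixed (h2 : (2 : F) = 0) (hQ : (polarBilin Q).Nondegenerate)
    (h : Fintype.card F ≠ 2 ∨ finrank F V ≠ 4) (t s g : OG Q) (hg : g * t * g⁻¹ = s) (y : V)
    (hy : Q y ≠ 0) (hty : t.1 y = y) : ∃ k ∈ commutator (OG Q), k * t * k⁻¹ = s := by
  obtain ⟨vs, hvs, rfl⟩ := exists_reflProd_eq_finite Q hQ h g
  by_cases he : Even vs.length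
  · exact ⟨_, (reflProd_mem_commutator_iff_char_two Q h2 hQ h vs hvs).2 he, hg⟩
  · refine ⟨reflProd Q (vs ++ [y]), ?_, ?_⟩
    · refine (reflProd_mem_commutator_iff_char_two Q h2 hQ h _ ?_).2 ?_
      · intro z hz
        rcases List.mem_append.1 hz with h | h
        · exact hvs z h
        · simp only [List.mem_cons, List.not_mem_nil, or_false] at h
          rw [h]; exact hy
      · simp only [List.length_append, List.length_cons, List.length_nil, zero_add]
        rw [Nat.even_add_one]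
        exact he
    · have hc : refl Q y * t * (refl Q y)⁻¹ = t := by
        have h1 := refl_conj Q t y
        rw [hty] at h1
        -- `t r t⁻¹ = r`
        have h3 : t * refl Q y = refl Q y * t := mul_inv_eq_iff_eq_mul.1 h1
        rw [← h3]; group
      rw [← hg]
      simp only [reflProd_append, reflProd_cons, reflProd_nil, mul_one]
      calc reflProd Q vs * refl Q y * t * (reflProd Q vs * refl Q y)⁻¹
          = reflProd Q vs * (refl Q y * t * (refl Q y)⁻¹) * (reflProd Q vs)⁻¹ := by group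
        _ = _ := by rw [hc]

/-- the Lagrangian case -/
theorem exists_commutator_conj_iff_of_lagr (h2 : (2 : F) = 0) (hQ : (polarBilin Q).Nondegenerate)
    (h : Fintype.card F ≠ 2 ∨ finrank F V ≠ 4) (t s g : OG Q) (hg : g * t * g⁻¹ = s)
    (hL : IsLagr Q (LinearMap.range (dOG Q t)))
    (he : Even (finrank F (LinearMap.range (dOG Q t)))) :
    (∃ k ∈ commutator (OG Q), k * t * k⁻¹ = s) ↔
      Even (finrank F ↥(LinearMap.range (dOG Q t) ⊓ LinearMap.range (dOG Q s))) := by
  have key : ∀ k : OG Q, k * t * k⁻¹ = s → (k ∈ commutator (OG Q) ↔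
      Even (finrank F ↥(LinearMap.range (dOG Q t) ⊓ LinearMap.range (dOG Q s)))) := by
    intro k hk
    obtain ⟨vs, hvs, rfl⟩ := exists_reflProd_eq_finite Q hQ h k
    rw [reflProd_mem_commutator_iff_char_two Q h2 hQ h vs hvs, ← hk, range_dOG_conj]
    have h1 := hL.even_finrank_inf_map_reflProd hQ hL vs hvs
    rw [inf_idem] at h1
    rw [Nat.even_iff] at h1 he ⊢
    rw [Nat.even_iff]
    omega
  constructor
  · rintro ⟨k, hk, hks⟩
    exact (key k hks).1 hk
  · intro hev
    exact ⟨g, (key g hg).2 hev, hg⟩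

end Abs

end Cfsg.Agent.Lib.Helper49
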