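import Cfsg.Agent.Lib.Helper49.CenEmbGen
import Cfsg.Agent.Lib.Helper49.MilTABE6

set_option autoImplicit false
set_option maxRecDepth 1000000
set_option maxHeartbeats 0

namespace Cfsg.Agent.Lib.Lead.Mil
open Cfsg.Lie Cfsg.Agent.Lib.Helper22

theorem emE6_h1 : ∀ r < tbE6.n, iotaE6 r < tbE8.n := by
  decide +kernel

theorem emE6_h2 : ∀ r < tbE6.n, iotaE6 (tbE6.n - 1 - r) = tbE8.n - 1 - iotaE6 r := by
  decide +kernel

theorem emE6_h3 : ∀ i < tbE6.l, iotaE6 (chevE6.simple i) = chevE8.simple i := by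
  decide +kernel

theorem emE6_h4 : ∀ r < tbE6.n, ∀ s < tbE6.n,
    ipLook tbE8.n ipTE8 (iotaE6 r) (iotaE6 s) = ipLook tbE6.n ipTE6 r s := by
  decide +kernel

theorem emE6_h5 : ∀ r < tbE6.n, ∀ i < tbE8.l,
    dc (coLook tbE8.l tbE8.CO (iotaE6 r) i) = if i < tbE6.l then dc (coLook tbE6.l tbE6.CO r i) else 0 := by
  decide +kernel

theorem emE6_h6 : ∀ r < tbE6.n, ∀ s < tbE6.n,
    ceF tbE8 (iotaE6 r) (iotaE6 s) = (ceF tbE6 r s).map fun p => (iotaE6 p.1, p.2) := by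
  decide +kernel

theorem embTab_E6 : EmbTab chevE6 iotaE6 :=
  embTab_of tbE6_valid hszE6 rfl mtE6_hip iotaE6 (by decide) emE6_h1 emE6_h2 emE6_h3 emE6_h4
    emE6_h5 emE6_h6

end Cfsg.Agent.Lib.Lead.Mil
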