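import Cfsg.Agent.Lib.Helper49.CenEmbGen
import Cfsg.Agent.Lib.Helper49.MilTABE7

set_option autoImplicit false
set_option maxRecDepth 1000000
set_option maxHeartbeats 0

namespace Cfsg.Agent.Lib.Lead.Mil
open Cfsg.Lie Cfsg.Agent.Lib.Helper22

theorem emE7_h1 : ∀ r < tbE7.n, iotaE7 r < tbE8.n := by
  decide +kernel

theorem emE7_h2 : ∀ r < tbE7.n, iotaE7 (tbE7.n - 1 - r) = tbE8.n - 1 - iotaE7 r := by
  decide +kernel

theorem emE7_h3 : ∀ i < tbE7.l, iotaE7 (chevE7.simple i) = chevE8.simple i := by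
  decide +kernel

theorem emE7_h4 : ∀ r < tbE7.n, ∀ s < tbE7.n,
    ipLook tbE8.n ipTE8 (iotaE7 r) (iotaE7 s) = ipLook tbE7.n ipTE7 r s := by
  decide +kernel

theorem emE7_h5 : ∀ r < tbE7.n, ∀ i < tbE8.l,
    dc (coLook tbE8.l tbE8.CO (iotaE7 r) i) = if i < tbE7.l then dc (coLook tbE7.l tbE7.CO r i) else 0 := by
  decide +kernel

theorem emE7_h6 : ∀ r < tbE7.n, ∀ s < tbE7.n,
    ceF tbE8 (iotaE7 r) (iotaE7 s) = (ceF tbE7 r s).map fun p => (iotaE7 p.1, p.2) := by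
  decide +kernel

theorem embTab_E7 : EmbTab chevE7 iotaE7 :=
  embTab_of tbE7_valid hszE7 rfl mtE7_hip iotaE7 (by decide) emE7_h1 emE7_h2 emE7_h3 emE7_h4
    emE7_h5 emE7_h6

end Cfsg.Agent.Lib.Lead.Mil
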