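import Cfsg.Agent.Lib.Lead.Mil.Emb
import Cfsg.Agent.Lib.Helper49.MilTABE8

/-!
# Ladder CEN, table rungs: reduction of `EmbTab D ι` to checks on number-coded tables
-/

set_option autoImplicit false

namespace Cfsg.Agent.Lib.Lead.Mil
open Cfsg.Lie Cfsg.Agent.Lib.Helper22

theorem neg_eq_of {T : Tb} {D : ChevalleyDatum} (V : T.Valid D) {r : ℕ} (hr : r < T.n) :
    D.neg r = T.n - 1 - r := V.neg_eq hr

theorem embTab_of {T : Tb} {D : ChevalleyDatum} (V : T.Valid D) (hsz : D.chain.size = T.n) (hL : T.L = 1)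
    {IP : ℕ} (hip : ∀ r < T.n, ∀ s < T.n, ipF T r s = dc (ipLook T.n IP r s)) (ι : ℕ → ℕ)
    (h0 : T.l ≤ 8)
    (h1 : ∀ r < T.n, ι r < tbE8.n)
    (h2 : ∀ r < T.n, ι (T.n - 1 - r) = tbE8.n - 1 - ι r)
    (h3 : ∀ i < T.l, ι (D.simple i) = chevE8.simple i)
    (h4 : ∀ r < T.n, ∀ s < T.n, ipLook tbE8.n ipTE8 (ι r) (ι s) = ipLook T.n IP r s)
    (h5 : ∀ r < T.n, ∀ i < tbE8.l,
      dc (coLook tbE8.l tbE8.CO (ι r) i) = if i < T.l then dc (coLook T.l T.CO r i) else 0)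
    (h6 : ∀ r < T.n, ∀ s < T.n, ceF tbE8 (ι r) (ι s) = (ceF T r s).map fun p => (ι p.1, p.2)) :
    EmbTab D ι := by
  have hn := V.hn
  have hl := V.hl
  have V8 := tbE8_valid
  refine ⟨hl ▸ h0, ?_, ?_, ?_, ?_, ?_, ?_⟩
  · intro r hr
    rw [← hn] at hr
    have h := h1 r hr
    rw [V8.hn] at h
    exact h
  · intro r hr
    rw [← hn] at hr
    rw [neg_eq_of V hr, neg_eq_of V8 (h1 r hr), h2 r hr]
  · intro i hi
    rw [← hl] at hi
    exact h3 i hi
  · intro r hr s hs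
    rw [← hn] at hr hs
    rw [ip_eq_of V8 (h1 r hr) (h1 s hs), mtE8_H _ (h1 r hr) _ (h1 s hs), ip_eq_of V hr hs, hip r hr s hs,
      h4 r hr s hs]
  · intro r hr i hi
    rw [← hn] at hr
    have hi' : i < tbE8.l := hi
    rw [vec_eq_of V8 (h1 r hr) hi', h5 r hr i hi', ← hl]
    split_ifs with h
    · rw [vec_eq_of V hr h]
    · rfl
  · intro r hr s hs k c h
    rw [← hn] at hr hs
    rw [commTerms_eq_of V hsz hL] at h
    rw [commTerms_eq_of V8 hszE8 rfl, h6 r hr s hs]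
    match hce : ceF T r s, h with
    | [p], h =>
      simp only [List.map_cons, List.map_nil, List.cons.injEq, Prod.mk.injEq, and_true] at h
      obtain ⟨a1, a2⟩ := h
      simp [a1, a2]

end Cfsg.Agent.Lib.Lead.Mil
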