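import Mathlib
import Cfsg.Agent.Lib.Helper49.InvolSplit

set_option autoImplicit false

namespace Cfsg.Agent.Lib.Helper49

open Matrix QuadraticMap Module

section MinusNoLagr

variable (m : ℕ) (F : Type*) [Field F]

/-- the standard totally singular subspace of dimension `m` of the minus type form -/
def minusU₀ : Submodule F ((Fin m ⊕ Fin m) ⊕ Fin 2 → F) where
  carrier := {v | (∀ i, v (Sum.inl (Sum.inr i)) = 0) ∧ ∀ j, v (Sum.inr j) = 0}
  add_mem' {u v} hu hv := ⟨fun i => by simp [hu.1 i, hv.1 i], fun j => by simp [hu.2 j, hv.2 j]⟩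
  zero_mem' := ⟨fun _ => rfl, fun _ => rfl⟩
  smul_mem' c v hv := ⟨fun i => by simp [hv.1 i], fun j => by simp [hv.2 j]⟩

variable {m F}

theorem mem_minusU₀ {v : (Fin m ⊕ Fin m) ⊕ Fin 2 → F} :
    v ∈ minusU₀ m F ↔ (∀ i, v (Sum.inl (Sum.inr i)) = 0) ∧ ∀ j, v (Sum.inr j) = 0 := Iff.rfl

theorem minusQF_eq_zero_of_mem (a b : F) {v : (Fin m ⊕ Fin m) ⊕ Fin 2 → F}
    (hv : v ∈ minusU₀ m F) : minusQF m F a b v = 0 := by
  rw [minusQF_coe]
  simp [Cfsg.quadFormMinus, hv.1, hv.2]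

theorem minusU₀_maximal (a b : F)
    (hab : ∀ z₁ z₂ : F, z₁ ^ 2 + a * z₁ * z₂ + b * z₂ ^ 2 = 0 → z₁ = 0 ∧ z₂ = 0)
    (W : Submodule F ((Fin m ⊕ Fin m) ⊕ Fin 2 → F)) (hW : minusU₀ m F ≤ W)
    (hW0 : ∀ w ∈ W, minusQF m F a b w = 0) : W = minusU₀ m F := by
  apply le_antisymm _ hW
  intro w hw
  have h1 : ∀ i, w (Sum.inl (Sum.inr i)) = 0 := by
    intro i
    have he : (Pi.single (Sum.inl (Sum.inl i)) (1 : F) : (Fin m ⊕ Fin m) ⊕ Fin 2 → F) ∈
        minusU₀ m F := ⟨fun j => by simp, fun j => by simp⟩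
    have h2 := polar_eq_zero_of_singular hW0 (hW he) hw
    rw [minusQF_coe, polar_quadFormMinus] at h2
    simpa [Pi.single_apply] using h2
  have h3 := hW0 w hw
  rw [minusQF_coe] at h3
  simp only [Cfsg.quadFormMinus, h1, mul_zero, Finset.sum_const_zero, zero_add] at h3
  have h4 := hab _ _ h3
  refine ⟨h1, fun j => ?_⟩
  fin_cases j
  · exact h4.1
  · exact h4.2

/-- the minus type form has no totally singular subspace of half the dimension -/
theorem not_isLagr_minusQF [Finite F] (a b : F)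
    (hab : ∀ z₁ z₂ : F, z₁ ^ 2 + a * z₁ * z₂ + b * z₂ ^ 2 = 0 → z₁ = 0 ∧ z₂ = 0)
    (hQ : (polarBilin (minusQF m F a b)).Nondegenerate)
    (L : Submodule F ((Fin m ⊕ Fin m) ⊕ Fin 2 → F)) : ¬ IsLagr (minusQF m F a b) L := by
  intro hL
  have h1 := Cfsg.Agent.S0760.result (minusQF m F a b) hQ (minusU₀ m F) L
    (fun w hw => minusQF_eq_zero_of_mem a b hw) hL.1 (minusU₀_maximal a b hab) (by
      intro W hLW hW0
      apply le_antisymm _ hLW
      intro w hw
      apply hL.mem_of_forall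
      intro l hl
      exact polar_eq_zero_of_singular hW0 (hLW hl) hw)
  have h2 := hL.finrank_eq hQ
  have h3 : IsLagr (minusQF m F a b) (minusU₀ m F) :=
    isLagr_of_finrank hQ (fun w hw => minusQF_eq_zero_of_mem a b hw) (by rw [h1.1, h2])
  have h4 : (Pi.single (Sum.inr 0) (1 : F) : (Fin m ⊕ Fin m) ⊕ Fin 2 → F) ∈ minusU₀ m F := by
    apply h3.mem_of_forall
    intro u hu
    rw [minusQF_coe, polar_quadFormMinus]
    simp [hu.1, hu.2]
  have := h4.2 0
  simp at this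

end MinusNoLagr

section Mat

variable {ι : Type} [Fintype ι] [DecidableEq ι] {F : Type*} [Field F] [Fintype F]
variable (Q : QuadraticForm F (ι → F))

theorem mul_self_eq_one_of_orderOf {G : Type*} [Group G] {t : G} (ht : orderOf t = 2) :
    t * t = 1 := by
  rw [← pow_two, ← ht, pow_orderOf_eq_one]

omit [Fintype F] in
/-- transfer of a conjugacy statement -/
theorem exists_Omega_conj_iff (t s : ↥(Cfsg.isometryGroup F ⇑Q)) :
    (∃ g ∈ Cfsg.Omega F ⇑Q, g * t * g⁻¹ = s) ↔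
      ∃ k ∈ commutator (OG Q), k * isoEquiv Q t * k⁻¹ = isoEquiv Q s := by
  constructor
  · rintro ⟨g, hg, rfl⟩
    exact ⟨isoEquiv Q g, (mem_Omega_iff Q g).1 hg, by simp⟩
  · rintro ⟨k, hk, hks⟩
    refine ⟨(isoEquiv Q).symm k, ?_, ?_⟩
    · rw [mem_Omega_iff, MulEquiv.apply_symm_apply]; exact hk
    · apply (isoEquiv Q).injective
      simpa using hks

/-- no splitting when there is no Lagrangian -/
theorem exists_Omega_conj_of_no_lagr (h2 : (2 : F) = 0) (hQ : (polarBilin Q).Nondegenerate)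
    (h : Fintype.card F ≠ 2 ∨ Fintype.card ι ≠ 4) (hno : ∀ L, ¬ IsLagr Q L)
    (t s : ↥(Cfsg.isometryGroup F ⇑Q)) (ht : orderOf t = 2) (hconj : IsConj t s) :
    ∃ g ∈ Cfsg.Omega F ⇑Q, g * t * g⁻¹ = s := by
  rw [exists_Omega_conj_iff]
  obtain ⟨c, hc⟩ := isConj_iff.1 hconj
  have hc' : isoEquiv Q c * isoEquiv Q t * (isoEquiv Q c)⁻¹ = isoEquiv Q s := by
    rw [← hc]; simp
  have ht' : isoEquiv Q t * isoEquiv Q t = 1 := by
    rw [← map_mul, mul_self_eq_one_of_orderOf ht, map_one]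
  by_cases hy : ∃ y, Q y ≠ 0 ∧ (isoEquiv Q t).1 y = y
  · obtain ⟨y, hy1, hy2⟩ := hy
    exact exists_commutator_conj_of_fixed Q h2 hQ (by rwa [Module.finrank_fintype_fun_eq_card])
      _ _ _ hc' y hy1 hy2
  · push Not at hy
    exfalso
    exact hno _ (isLagr_range_dOG_of_singular Q h2 hQ _ ht' (by
      intro y hy'
      by_contra h0
      exact hy y h0 hy')).1

end Mat

end Cfsg.Agent.Lib.Helper49
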